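import Mathlib
import Cfsg.Prelude.Def_Characters
import Cfsg.Prelude.Def_Blocks
import Cfsg.Agent.Characters.Core
import Cfsg.Agent.Characters.Central
import Cfsg.Agent.CharactersDeep.Tifn
import Cfsg.Agent.CharDeep.PowerDegrees
import Cfsg.Agent.CharDeep.CliffordCorr
import Cfsg.Agent.H686.CharKit
import Cfsg.Agent.Solvable.Carter
import Cfsg.Agent.SolvableStructure.AbelianSocle
import Cfsg.Agent.SolvableStructure.MinimalNormal
import Cfsg.Agent.H690.RegOrb
import Cfsg.Agent.Lib.Cores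
import Cfsg.Agent.FastGrp
import Cfsg.Agent.Prune
set_option linter.all false

section
prune_inst 0x7f00000000000000000000000000000000000000000000000000000000000000000000000000000000000000000000000000000000000000000000000000000000000000000000000000000000000000003fffffffffffffffffffffffffffbeffbdffffffff

-- part: H690/Van
section
set_option linter.all false
open scoped Cfsg.Agent.FastGrp

/-!
# Vanishing elements

`Vn x`: some irreducible character vanishes at `x`.

* `Vn.of_quot`: vanishing elements of quotients lift;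
* `Vn.of_fpf`: elements acting fixed point freely on a normal subgroup;
* `Vn.of_not_inertia`: elements no conjugate of which stabilises an irreducible character of a
  normal subgroup;
* `Vn.of_nilpotent`: non-central elements of nilpotent groups.
-/

set_option autoImplicit false

namespace Cfsg.Agent.H690.Van

open Cfsg Cfsg.Agent.Characters Cfsg.Agent.H686

universe u

variable {G : Type u} [Group G]

/-- `x` is a vanishing element of `G`. -/
def Vn (x : G) : Prop := ∃ χ : IrrCharacter G, (χ : G → ℂ) x = 0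

theorem Vn.of_quot (N : Subgroup G) [N.Normal] {x : G} (h : Vn (x : G ⧸ N)) : Vn x := by
  obtain ⟨χ, hχ⟩ := h
  exact ⟨CharKit.infl N χ, hχ⟩

theorem not_vn_one [Finite G] : ¬ Vn (1 : G) := by
  rintro ⟨χ, hχ⟩
  exact Core.isIrr_apply_one_ne_zero χ.2 hχ

/-- some irreducible character has a given nontrivial element outside its kernel -/
theorem exists_ne [Finite G] {z : G} (hz : z ≠ 1) :
    ∃ χ : IrrCharacter G, (χ : G → ℂ) z ≠ (χ : G → ℂ) 1 := by
  by_contra hcon
  push Not at hcon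
  exact hz ((Subgroup.mem_bot).1 (CharKit.mem_of_forall_chKer (⊥ : Subgroup G)
    (fun χ _ => CharKit.mem_chKer.2 (hcon χ))))

theorem Vn.of_fpf [Finite G] (K : Subgroup G) [K.Normal] (hK : K ≠ ⊥) (g : G)
    (hg : ∀ c ∈ K, c * g = g * c → c = 1) : Vn g := by
  obtain ⟨k, hk, hk1⟩ := (Subgroup.bot_or_exists_ne_one K).resolve_left hK
  obtain ⟨χ, hχ⟩ := exists_ne hk1
  exact ⟨χ, Cfsg.Agent.CharactersDeep.Tifn.apply_eq_zero K χ.2 ⟨k, hk, hχ⟩ g hg⟩

theorem central_mul [Finite G] (χ : IrrCharacter G) {z : G} (hz : z ∈ Subgroup.center G) (y : G) :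
    (χ : G → ℂ) (z * y) = (χ : G → ℂ) z / (χ : G → ℂ) 1 * (χ : G → ℂ) y := by
  have : Fintype G := Fintype.ofFinite G
  have h := Central.sum_char_conj_mul χ.2 z y
  have h1 : ∀ a : G, a * z * a⁻¹ = z := fun a => by
    rw [(Subgroup.mem_center_iff.1 hz a), mul_inv_cancel_right]
  simp only [h1, Finset.sum_const, Finset.card_univ, nsmul_eq_mul] at h
  have hc : (Nat.card G : ℂ) ≠ 0 := Core.card_ne_zero_complex
  rw [← Nat.card_eq_fintype_card] at h
  have := Core.isIrr_apply_one_ne_zero χ.2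
  field_simp at h ⊢
  linear_combination h

/-- If the commutator of `x` and `g` is central and nontrivial then `x` is a vanishing element. -/
theorem Vn.of_comm [Finite G] {x g z : G} (hz : z ∈ Subgroup.center G) (hz1 : z ≠ 1)
    (h : g * x * g⁻¹ = z * x) : Vn x := by
  obtain ⟨χ, hχ⟩ := exists_ne hz1
  refine ⟨χ, ?_⟩
  have h1 : (χ : G → ℂ) (g * x * g⁻¹) = (χ : G → ℂ) x := Core.isIrr_isClassFunction χ.2 x g
  rw [h, central_mul χ hz x] at h1
  by_contra hx
  have h2 : (χ : G → ℂ) z / (χ : G → ℂ) 1 = 1 := by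
    have := mul_right_cancel₀ hx (h1.trans (one_mul _).symm)
    exact this
  exact hχ ((div_eq_one_iff_eq (Core.isIrr_apply_one_ne_zero χ.2)).1 h2)

/-- Non-central elements of a nilpotent group are vanishing. -/
theorem Vn.of_nilpotent [Finite G] [Group.IsNilpotent G] {x : G} (hx : x ∉ Subgroup.center G) :
    Vn x := by
  classical
  have hex : ∃ n, x ∈ Subgroup.upperCentralSeries G n := by
    obtain ⟨n, hn⟩ := Group.IsNilpotent.nilpotent G
    exact ⟨n, hn ▸ Subgroup.mem_top x⟩
  let n := Nat.find hex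
  have hn : x ∈ Subgroup.upperCentralSeries G n := Nat.find_spec hex
  have hmin : ∀ m < n, x ∉ Subgroup.upperCentralSeries G m := fun m hm => Nat.find_min hex hm
  have hn0 : n ≠ 0 := by
    intro h0
    rw [h0, Subgroup.upperCentralSeries_zero, Subgroup.mem_bot] at hn
    exact hx (hn ▸ Subgroup.one_mem _)
  have hn1 : n ≠ 1 := by
    intro h0
    rw [h0, Subgroup.upperCentralSeries_one] at hn
    exact hx hn
  obtain ⟨m, hm⟩ : ∃ m, n = m + 2 := ⟨n - 2, by omega⟩
  rw [hm] at hn hmin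
  have h1 : x ∉ Subgroup.upperCentralSeries G (m + 1) := hmin _ (by omega)
  rw [Subgroup.mem_upperCentralSeries_succ_iff] at h1 hn
  push Not at h1
  obtain ⟨g, hg⟩ := h1
  have hg' := hn g
  -- pass to the quotient
  let N := Subgroup.upperCentralSeries G m
  have hN : N.Normal := inferInstance
  apply Vn.of_quot N
  set z : G := x * g * x⁻¹ * g⁻¹ with hzdef
  have hzN : (z : G ⧸ N) ≠ 1 := fun h => hg ((QuotientGroup.eq_one_iff z).1 h)
  have hzc : (z : G ⧸ N) ∈ Subgroup.center (G ⧸ N) := by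
    rw [Subgroup.mem_center_iff]
    intro y
    obtain ⟨y, rfl⟩ := QuotientGroup.mk_surjective y
    have := hg' y
    rw [commutatorElement_def, commutatorElement_def] at this
    rw [← QuotientGroup.mk_mul, ← QuotientGroup.mk_mul, QuotientGroup.eq]
    have h4 := hN.conj_mem _ this (y⁻¹ * z⁻¹)
    convert h4 using 1
    rw [hzdef]
    group
  refine Vn.of_comm (g := (g : G ⧸ N)) (z := (z : G ⧸ N)⁻¹) (Subgroup.inv_mem _ hzc)
    (fun h => hzN (inv_eq_one.1 h)) ?_
  rw [← QuotientGroup.mk_inv, ← QuotientGroup.mk_inv, ← QuotientGroup.mk_mul,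
    ← QuotientGroup.mk_mul, ← QuotientGroup.mk_mul]
  congr 1
  rw [hzdef]
  group

/-- Elements no conjugate of which stabilises an irreducible character of a normal subgroup are
vanishing. -/
theorem Vn.of_not_inertia [Finite G] (N : Subgroup G) [hN : N.Normal] (θ : N → ℂ)
    (hθ : IsIrrCharacter N θ) (x : G)
    (hx : ∀ g : G, ¬ ∀ n : N, θ ⟨(g * x * g⁻¹) * n * (g * x * g⁻¹)⁻¹,
      hN.conj_mem (n : G) n.2 (g * x * g⁻¹)⟩ = θ n) : Vn x := by
  have : Fintype G := Fintype.ofFinite G
  have : Fintype N := Fintype.ofFinite N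
  classical
  let θ' : IrrCharacter N := ⟨θ, hθ⟩
  let T : Subgroup G := CharKit.inertia N θ'
  have : Fintype T := Fintype.ofFinite T
  have hT : ∀ g : G, g ∈ T ↔ ∀ n : N, θ ⟨g * n * g⁻¹, hN.conj_mem (n : G) n.2 g⟩ = θ n := by
    intro g
    rw [CharKit.mem_inertia N (θ := θ')]
    constructor
    · intro h n
      exact h n ⟨_, hN.conj_mem (n : G) n.2 g⟩ rfl
    · intro h n n' hn'
      have h2 : n' = ⟨g * n * g⁻¹, hN.conj_mem (n : G) n.2 g⟩ := Subtype.ext hn'
      rw [h2]
      exact h n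
  have hNT : N ≤ T := by
    intro n hn
    rw [hT]
    intro m
    exact Core.isIrr_isClassFunction hθ m ⟨n, hn⟩
  obtain ⟨χ, hχ, hc⟩ := Cfsg.Agent.CharDeep.PowerDegrees.exists_irr_over N hθ
  obtain ⟨ψ, hψ, hind, -⟩ := Cfsg.Agent.CharDeep.CliffordCorr.clifford_correspondence N θ hθ T hT
    hNT χ hχ hc
  refine ⟨⟨χ, hχ⟩, ?_⟩
  show χ x = 0
  rw [← hind, Core.indFun_apply]
  rw [Finset.sum_eq_zero, mul_zero]
  intro g _
  apply Core.extendByZero_of_notMem
  intro hmem
  have := (hT _).1 hmem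
  exact hx g⁻¹ (by simpa using this)

end Cfsg.Agent.H690.Van
end

-- part: H690/SolvStruct
section
set_option linter.all false
open scoped Cfsg.Agent.FastGrp

/-!
# Solvable groups all of whose vanishing elements are `p`-elements
-/

set_option autoImplicit false

namespace Cfsg.Agent.H690.SolvStruct

open Cfsg Cfsg.Agent.Characters Cfsg.Agent.H690.Van
open scoped Pointwise

universe u

variable {G : Type u} [Group G]

/-- All vanishing elements are `p`-elements. -/
def VP (p : ℕ) (G : Type u) [Group G] : Prop := ∀ g : G, Vn g → ∃ m, orderOf g = p ^ m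

theorem VP.quot {p : ℕ} (hp : p.Prime) (h : VP p G) (N : Subgroup G) [N.Normal] : VP p (G ⧸ N) := by
  intro g hg
  obtain ⟨g, rfl⟩ := QuotientGroup.mk_surjective g
  obtain ⟨m, hm⟩ := h g (Vn.of_quot N hg)
  have h1 : orderOf (g : G ⧸ N) ∣ p ^ m := by
    rw [← hm]
    exact orderOf_map_dvd (QuotientGroup.mk' N) g
  obtain ⟨k, -, hk⟩ := (Nat.dvd_prime_pow hp).1 h1
  exact ⟨k, hk⟩

theorem order_quot {p : ℕ} (hp : p.Prime) (N : Subgroup G) [N.Normal] {x : G}
    (hx : ∃ m, orderOf x = p ^ m) : ∃ m, orderOf (x : G ⧸ N) = p ^ m := by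
  obtain ⟨m, hm⟩ := hx
  have h1 : orderOf (x : G ⧸ N) ∣ p ^ m := by
    rw [← hm]
    exact orderOf_map_dvd (QuotientGroup.mk' N) x
  obtain ⟨k, -, hk⟩ := (Nat.dvd_prime_pow hp).1 h1
  exact ⟨k, hk⟩

/-- A product of commuting `x`, `h` of coprime orders, `x` a `p`-element, `h ≠ 1`, is not a
`p`-element. -/
theorem not_p_of_mixed {p : ℕ} (hp : p.Prime) {x h : G} (hx : ∃ m, orderOf x = p ^ m)
    (hh : (orderOf h).Coprime p) (h1 : h ≠ 1) (hc : h * x = x * h) :
    ¬ ∃ m, orderOf (x * h) = p ^ m := by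
  rintro ⟨k, hk⟩
  obtain ⟨m, hm⟩ := hx
  have hco : (orderOf x).Coprime (orderOf h) := by
    rw [hm]; exact (Nat.Coprime.pow_right m hh).symm
  have h2 := Commute.orderOf_mul_eq_mul_orderOf_of_coprime (Commute.symm hc : Commute x h) hco
  rw [hk] at h2
  have h3 : orderOf h ∣ p ^ k := h2 ▸ Dvd.intro_left _ rfl
  have h4 : orderOf h = 1 := Nat.Coprime.eq_one_of_dvd (Nat.Coprime.pow_right k hh) h3
  exact h1 (orderOf_eq_one_iff.1 h4)

/-- If `c` commutes with `x * h` (coprime commuting parts) then `c` commutes with `x`. -/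
theorem comm_of_comm_mul [Finite G] {p : ℕ} {x h c : G} (hx : ∃ m, orderOf x = p ^ m)
    (hh : (orderOf h).Coprime p) (hc : h * x = x * h) (hcc : c * (x * h) = (x * h) * c) :
    c * x = x * c := by
  obtain ⟨m, hm⟩ := hx
  have hco : (orderOf h).Coprime (orderOf x) := by
    rw [hm]; exact (Nat.Coprime.pow_right m hh)
  obtain ⟨k, hk1, hk2⟩ := (Nat.chineseRemainder hco 0 1)
  have hxh : Commute x h := Commute.symm hc
  have h1 : (x * h) ^ k = x := by
    rw [hxh.mul_pow]
    have e1 : h ^ k = 1 := orderOf_dvd_iff_pow_eq_one.1 ((Nat.modEq_zero_iff_dvd).1 hk1)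
    have e2 : x ^ k = x := by
      have := (pow_eq_pow_iff_modEq (x := x) (n := k) (m := 1)).2 hk2
      rwa [pow_one] at this
    rw [e1, e2, mul_one]
  have h2 : Commute c ((x * h) ^ k) := (show Commute c (x * h) from hcc).pow_right k
  rw [h1] at h2
  exact h2

/-- The structure of the theorem. -/
def Str (p : ℕ) (G : Type u) [Group G] (H : Subgroup G) : Prop :=
  H.Normal ∧ (Nat.card H).Coprime p ∧ (∃ k, H.index = p ^ k) ∧
    ∀ x : G, (∃ m, orderOf x = p ^ m) → ∀ h ∈ H, h ≠ 1 → h * x = x * h → x ∈ Subgroup.center G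

theorem order_coprime_of_mem [Finite G] {p : ℕ} {H : Subgroup G} (hH : (Nat.card H).Coprime p)
    {h : G} (hh : h ∈ H) : (orderOf h).Coprime p :=
  Nat.Coprime.coprime_dvd_left (Subgroup.orderOf_dvd_natCard H hh) hH

theorem eq_one_of_coprime_of_pow [Finite G] {p : ℕ} {x : G} (h1 : (orderOf x).Coprime p)
    (h2 : ∃ m, orderOf x = p ^ m) : x = 1 := by
  obtain ⟨m, hm⟩ := h2
  have h3 : Nat.Coprime (orderOf x) (orderOf x) := by
    nth_rewrite 2 [hm]; exact Nat.Coprime.pow_right m h1
  exact orderOf_eq_one_iff.1 ((Nat.coprime_self _).1 h3)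

theorem card_comap [Finite G] (L : Subgroup G) [L.Normal] (H' : Subgroup (G ⧸ L)) :
    Nat.card (H'.comap (QuotientGroup.mk' L)) = Nat.card L * Nat.card H' := by
  have h1 := Subgroup.card_mul_index (H'.comap (QuotientGroup.mk' L))
  rw [Subgroup.index_comap_of_surjective _ (QuotientGroup.mk'_surjective L)] at h1
  have h2 := Subgroup.card_eq_card_quotient_mul_card_subgroup L
  have h3 := Subgroup.card_mul_index H'
  rw [h2, ← h3] at h1
  have h4 : 0 < H'.index := Nat.pos_of_ne_zero Subgroup.index_ne_zero_of_finite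
  apply Nat.eq_of_mul_eq_mul_right h4
  rw [h1]
  ring

/-- Induction step, `L` a minimal normal `q`-subgroup, `q ≠ p`. -/
theorem step_q [Finite G] {p : ℕ} [hp : Fact p.Prime] (hV : VP p G) (L : Subgroup G) [hL : L.Normal]
    (hLp : (Nat.card L).Coprime p) (hLc : ∀ a ∈ L, ∀ b ∈ L, a * b = b * a) (hLb : L ≠ ⊥)
    (hmin : ∀ K : Subgroup G, K.Normal → K ≤ L → K = ⊥ ∨ K = L) {H' : Subgroup (G ⧸ L)}
    (hS : Str p (G ⧸ L) H') : Str p G (H'.comap (QuotientGroup.mk' L)) := by
  obtain ⟨hN, hcard, ⟨k, hk⟩, hcen⟩ := hS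
  have hLH : L ≤ H'.comap (QuotientGroup.mk' L) := by
    intro x hx
    rw [Subgroup.mem_comap]
    have : (QuotientGroup.mk' L) x = 1 := (QuotientGroup.eq_one_iff x).2 hx
    rw [this]
    exact H'.one_mem
  have hcard2 : (Nat.card (H'.comap (QuotientGroup.mk' L))).Coprime p := by
    rw [card_comap L H']
    exact Nat.Coprime.mul_left hLp hcard
  refine ⟨inferInstance, hcard2, ⟨k, ?_⟩, ?_⟩
  · rw [← hk]
    exact Subgroup.index_comap_of_surjective _ (QuotientGroup.mk'_surjective L)
  intro x hx h hh h1 hc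
  have hhp : (orderOf h).Coprime p := order_coprime_of_mem hcard2 hh
  have hxL : ∃ m, orderOf (x : G ⧸ L) = p ^ m := order_quot hp.out L hx
  have hnv : ¬ Vn (x * h) := fun hv => not_p_of_mixed hp.out hx hhp h1 hc (hV _ hv)
  -- `x L` is central in `G / L`
  have hcent : (x : G ⧸ L) ∈ Subgroup.center (G ⧸ L) := by
    by_contra hx'
    by_cases hhL : h ∈ L
    · have hv : Vn (x : G ⧸ L) := by
        by_cases hb : H' = ⊥
        · have hpg : IsPGroup p (G ⧸ L) := by
            apply IsPGroup.of_card (n := k)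
            rw [← hk, hb, Subgroup.index_bot]
          have := hpg.isNilpotent
          exact Vn.of_nilpotent hx'
        · refine Vn.of_fpf H' hb _ ?_
          intro c hc1 hc2
          by_contra hc3
          exact hx' (hcen _ hxL c hc1 hc3 hc2)
      apply hnv
      apply Vn.of_quot L
      have : ((x * h : G) : G ⧸ L) = (x : G ⧸ L) := by
        rw [QuotientGroup.eq]
        have : (x * h)⁻¹ * x = h⁻¹ := by group
        rw [this]
        exact L.inv_mem hhL
      rw [this]
      exact hv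
    · apply hx'
      refine hcen _ hxL (h : G ⧸ L) hh (fun h2 => hhL ((QuotientGroup.eq_one_iff h).1 h2)) ?_
      rw [← QuotientGroup.mk_mul, ← QuotientGroup.mk_mul, hc]
  -- commutators with `x` are in `L`
  have hcomm : ∀ g : G, g * x * g⁻¹ * x⁻¹ ∈ L := by
    intro g
    rw [← QuotientGroup.eq_one_iff]
    have := Subgroup.mem_center_iff.1 hcent (g : G ⧸ L)
    rw [QuotientGroup.mk_mul, QuotientGroup.mk_mul, QuotientGroup.mk_mul, this]
    simp
  by_cases hall : ∀ l ∈ L, l * x = x * l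
  · rw [Subgroup.mem_center_iff]
    intro g
    obtain ⟨m, hm⟩ := hx
    set l := g * x * g⁻¹ * x⁻¹ with hl
    have hlL : l ∈ L := hcomm g
    have h3 : g * x * g⁻¹ = l * x := by rw [hl]; group
    have h4 : (g * x * g⁻¹) ^ (p ^ m) = 1 := by
      rw [conj_pow, ← hm, pow_orderOf_eq_one]
      group
    rw [h3, (show Commute l x from hall l hlL).mul_pow, ← hm, pow_orderOf_eq_one, mul_one] at h4
    have h5 : l = 1 := by
      have h6 : (orderOf l).Coprime (orderOf x) := by
        rw [hm]; exact Nat.Coprime.pow_right m (order_coprime_of_mem hLp hlL)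
      have h7 : orderOf l = 1 := Nat.Coprime.eq_one_of_dvd h6 (orderOf_dvd_of_pow_eq_one h4)
      exact orderOf_eq_one_iff.1 h7
    rw [h5, one_mul] at h3
    rw [mul_inv_eq_iff_eq_mul] at h3
    exact h3
  · exfalso
    push Not at hall
    obtain ⟨l0, hl0, hl0x⟩ := hall
    -- the centraliser of `x` in `L` is normal
    let C : Subgroup G := L ⊓ Subgroup.centralizer {x}
    have hCmem : ∀ c, c ∈ C ↔ c ∈ L ∧ c * x = x * c := by
      intro c
      rw [Subgroup.mem_inf, Subgroup.mem_centralizer_singleton_iff]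
    have hCn : C.Normal := by
      constructor
      intro c hc g
      rw [hCmem] at hc ⊢
      refine ⟨hL.conj_mem _ hc.1 g, ?_⟩
      have h6 : g⁻¹ * x * g * x⁻¹ ∈ L := by
        have := hcomm g⁻¹
        rwa [inv_inv] at this
      set l := g⁻¹ * x * g * x⁻¹ with hl
      have h7 : x * g = g * (l * x) := by rw [hl]; group
      have h8 : l * c = c * l := hLc l h6 c hc.1
      -- `x g c g⁻¹ = g l x c g⁻¹ = g c l x g⁻¹ = g c g⁻¹ x`
      have h9 : x * (g * c * g⁻¹) = (g * c * g⁻¹) * x := by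
        have e1 : x * (g * c * g⁻¹) = (x * g) * c * g⁻¹ := by group
        have e2 : g * (l * x) * c * g⁻¹ = g * (l * (x * c)) * g⁻¹ := by group
        have e3 : g * (l * (c * x)) * g⁻¹ = g * ((l * c) * x) * g⁻¹ := by group
        have e4 : g * ((c * l) * x) * g⁻¹ = g * c * g⁻¹ * (g * (l * x)) * g⁻¹ := by group
        rw [e1, h7, e2, ← hc.2, e3, h8, e4, ← h7]
        group
      exact h9.symm
    have hCb : C = ⊥ := by
      rcases hmin C hCn inf_le_left with h | h
      · exact h
      · exact absurd ((hCmem l0).1 (h ▸ hl0)).2 hl0x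
    apply hnv
    refine Vn.of_fpf L hLb _ ?_
    intro c hcL hcc
    have := comm_of_comm_mul hx hhp hc hcc
    have h6 : c ∈ C := (hCmem c).2 ⟨hcL, this⟩
    rw [hCb, Subgroup.mem_bot] at h6
    exact h6

/-- A normal abelian `p`-subgroup `L` is centralised by a normal subgroup `H1 ≥ L` with `H1 / L` a
`p'`-group if all vanishing elements are `p`-elements. -/
theorem le_centralizer [Finite G] [Group.IsSolvable G] {p : ℕ} [hp : Fact p.Prime] (hV : VP p G)
    (L H1 : Subgroup G) [hL : L.Normal] [hH1 : H1.Normal] (hLp : IsPGroup p L)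
    (hLc : ∀ a ∈ L, ∀ b ∈ L, a * b = b * a) (hLH : L ≤ H1)
    (hcop : (L.relIndex H1).Coprime p) : H1 ≤ Subgroup.centralizer (L : Set G) := by
  classical
  by_contra hcon
  let C : Subgroup G := H1 ⊓ Subgroup.centralizer (L : Set G)
  have hCn : C.Normal := inferInstance
  have hCH : C ≤ H1 := inf_le_left
  have hLC : L ≤ C := le_inf hLH (fun a ha => Subgroup.mem_centralizer_iff.2 fun b hb => hLc b hb a ha)
  have hCne : ¬ H1 ≤ C := fun h => hcon (h.trans inf_le_right)
  -- a chief factor `K / C`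
  have hne : H1.map (QuotientGroup.mk' C) ≠ ⊥ := by
    intro h
    rw [Subgroup.map_eq_bot_iff, QuotientGroup.ker_mk'] at h
    exact hCne h
  have hH1n : (H1.map (QuotientGroup.mk' C)).Normal :=
    Subgroup.Normal.map hH1 _ (QuotientGroup.mk'_surjective C)
  obtain ⟨K', hK'n, hK'b, hK'H, hK'min⟩ :=
    Cfsg.Agent.SolvableStructure.AbelianSocle.exists_minimal_normal_le hH1n hne
  have hK'c := Cfsg.Agent.SolvableStructure.MinimalNormal.comm_of_minimal_normal K' hK'b hK'min
  let K : Subgroup G := K'.comap (QuotientGroup.mk' C)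
  have hKn : K.Normal := inferInstance
  have hKmem : ∀ g, g ∈ K ↔ (g : G ⧸ C) ∈ K' := fun g => Iff.rfl
  have hCK : C ≤ K := by
    intro x hx
    rw [hKmem, (QuotientGroup.eq_one_iff x).2 hx]
    exact K'.one_mem
  have hKH : K ≤ H1 := by
    intro x hx
    obtain ⟨y, hy, hyx⟩ := hK'H ((hKmem x).1 hx)
    have : y⁻¹ * x ∈ C := QuotientGroup.eq.1 hyx
    have := H1.mul_mem hy (hCH this)
    rwa [mul_inv_cancel_left] at this
  obtain ⟨k0, hk0K, hk0C⟩ : ∃ k ∈ K, k ∉ C := by
    by_contra h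
    push Not at h
    apply hK'b
    rw [eq_bot_iff]
    intro x hx
    obtain ⟨x, rfl⟩ := QuotientGroup.mk_surjective x
    rw [Subgroup.mem_bot, QuotientGroup.eq_one_iff]
    exact h x hx
  -- the action of `K` on `L`
  let _ : CommGroup L := { (inferInstance : Group L) with
    mul_comm := fun a b => Subtype.ext (hLc a a.2 b b.2) }
  let φ : K →* MulAut L := (MulAut.conjNormal : G →* MulAut L).comp K.subtype
  have hφ : ∀ (k : K) (l : L), ((φ k l : L) : G) = k * l * (k : G)⁻¹ := fun k l =>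
    MulAut.conjNormal_apply _ _
  have hφ1 : ∀ k : K, φ k = 1 ↔ (k : G) ∈ C := by
    intro k
    constructor
    · intro h
      refine Subgroup.mem_inf.2 ⟨hKH k.2, Subgroup.mem_centralizer_iff.2 fun l hl => ?_⟩
      have := hφ k ⟨l, hl⟩
      rw [h] at this
      have h2 : l = k * l * (k : G)⁻¹ := this
      rw [eq_mul_inv_iff_mul_eq] at h2
      exact h2
    · intro h
      ext l
      rw [hφ]
      have := Subgroup.mem_centralizer_iff.1 (Subgroup.mem_inf.1 h).2 l l.2
      show (k : G) * l * (k : G)⁻¹ = l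
      rw [← this, mul_inv_cancel_right]
  have hφab : ∀ a b, φ (a * b) = φ (b * a) := by
    intro a b
    have h1 : φ (a * b * (b * a)⁻¹) = 1 := by
      rw [hφ1]
      have h2 := hK'c _ ((hKmem a).1 a.2) _ ((hKmem b).1 b.2)
      rw [← QuotientGroup.eq_one_iff]
      have h3 : ((a * b * (b * a)⁻¹ : K) : G) = (a : G) * b * ((b : G) * a)⁻¹ := rfl
      rw [h3, QuotientGroup.mk_mul, QuotientGroup.mk_mul, QuotientGroup.mk_inv,
        QuotientGroup.mk_mul, h2, mul_inv_cancel]
    rw [map_mul, map_inv, mul_inv_eq_one] at h1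
    exact h1
  obtain ⟨a, ha⟩ := (IsPGroup.iff_card (p := p) (G := L)).1 hLp
  have hcard : (Nat.card φ.range).Coprime p := by
    have h1 : Nat.card φ.range = φ.ker.index := (Subgroup.index_ker φ).symm
    have h2 : L.subgroupOf K ≤ φ.ker := by
      intro x hx
      rw [MonoidHom.mem_ker, hφ1]
      exact hLC hx
    have h3 : φ.ker.index ∣ L.relIndex K := Subgroup.index_dvd_of_le h2
    have h4 : L.relIndex K ∣ L.relIndex H1 :=
      Dvd.intro _ (Subgroup.relIndex_mul_relIndex L K H1 (hLC.trans hCK) hKH)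
    rw [h1]
    exact Nat.Coprime.coprime_dvd_left (h3.trans h4) hcop
  have hcardL : (Nat.card φ.range).Coprime (Nat.card L) := by
    rw [ha]; exact Nat.Coprime.pow_right a hcard
  obtain ⟨l, hl⟩ := RegOrb.exists_char φ hφab hcardL
  -- a `p'`-element outside `C`
  obtain ⟨b, m, hm2, hm1⟩ := Nat.exists_eq_pow_mul_and_not_dvd (n := Nat.card G)
    Nat.card_pos.ne' p hp.out.ne_one
  let y : K := ⟨k0, hk0K⟩ ^ (p ^ b)
  have hy1 : φ y ≠ 1 := by
    intro h
    have h1 : (φ ⟨k0, hk0K⟩) ^ (p ^ b) = 1 := by rw [← map_pow]; exact h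
    have h2 : orderOf (φ ⟨k0, hk0K⟩) ∣ p ^ b := orderOf_dvd_of_pow_eq_one h1
    have h3 : orderOf (φ ⟨k0, hk0K⟩) ∣ Nat.card φ.range := by
      have := Subgroup.orderOf_dvd_natCard φ.range (x := φ ⟨k0, hk0K⟩) ⟨_, rfl⟩
      exact this
    have h4 : orderOf (φ ⟨k0, hk0K⟩) = 1 := by
      have h5 : (orderOf (φ ⟨k0, hk0K⟩)).Coprime (p ^ b) :=
        Nat.Coprime.pow_right b (Nat.Coprime.coprime_dvd_left h3 hcard)
      exact Nat.Coprime.eq_one_of_dvd h5 h2
    exact hk0C ((hφ1 ⟨k0, hk0K⟩).1 (orderOf_eq_one_iff.1 h4))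
  have hyC : (y : G) ∉ C := fun h => hy1 ((hφ1 y).2 h)
  have hyp : (orderOf (y : G)).Coprime p := by
    have h1 : (y : G) ^ m = 1 := by
      have : (y : G) = k0 ^ (p ^ b) := rfl
      rw [this, ← pow_mul, ← hm1]
      exact pow_card_eq_one'
    exact Nat.Coprime.coprime_dvd_left (orderOf_dvd_of_pow_eq_one h1)
      ((Nat.Prime.coprime_iff_not_dvd hp.out).2 hm2).symm
  have hirr : IsIrrCharacter L (fun x => ((l x : ℂˣ) : ℂ)) := Linear.isIrrCharacter_hom l
  have hv : Vn (y : G) := by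
    refine Vn.of_not_inertia L _ hirr _ ?_
    intro g hg
    have hgy : g * (y : G) * g⁻¹ ∈ K := hKn.conj_mem _ y.2 g
    have h1 : φ ⟨g * (y : G) * g⁻¹, hgy⟩ = 1 := by
      apply hl
      intro x
      apply Units.ext
      have := hg x
      rw [← this]
      congr 2
    have h2 : g * (y : G) * g⁻¹ ∈ C := (hφ1 _).1 h1
    have h3 := hCn.conj_mem _ h2 g⁻¹
    apply hyC
    convert h3 using 1
    group
  obtain ⟨n, hn⟩ := hV _ hv
  have h5 := eq_one_of_coprime_of_pow hyp ⟨n, hn⟩
  exact hyC (h5 ▸ C.one_mem)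

/-- Induction step, `L` a normal abelian `p`-subgroup. -/
theorem step_p [Finite G] [Group.IsSolvable G] {p : ℕ} [hp : Fact p.Prime] (hV : VP p G)
    (L : Subgroup G) [hL : L.Normal] (hLp : IsPGroup p L)
    (hLc : ∀ a ∈ L, ∀ b ∈ L, a * b = b * a) {H' : Subgroup (G ⧸ L)}
    (hS : Str p (G ⧸ L) H') : ∃ H : Subgroup G, Str p G H := by
  obtain ⟨hN, hcard, ⟨k, hk⟩, hcen⟩ := hS
  let H1 : Subgroup G := H'.comap (QuotientGroup.mk' L)
  have hH1n : H1.Normal := inferInstance
  have hLH : L ≤ H1 := by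
    intro x hx
    rw [Subgroup.mem_comap]
    have : (QuotientGroup.mk' L) x = 1 := (QuotientGroup.eq_one_iff x).2 hx
    rw [this]
    exact H'.one_mem
  have hrel : L.relIndex H1 = Nat.card H' := by
    have h1 := card_comap L H'
    have h2 : L.relIndex H1 * Nat.card L = Nat.card H1 := by
      have := Subgroup.card_mul_index (L.subgroupOf H1)
      rw [mul_comm]
      rw [← this, Nat.card_congr (Subgroup.subgroupOfEquivOfLe hLH).toEquiv]
      rfl
    have h3 : 0 < Nat.card L := Nat.card_pos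
    apply Nat.eq_of_mul_eq_mul_right h3
    rw [h2, h1]
    ring
  have hcent := le_centralizer hV L H1 hLp hLc hLH (by rw [hrel]; exact hcard)
  obtain ⟨a, ha⟩ := (IsPGroup.iff_card (p := p) (G := L)).1 hLp
  -- the complement
  have hco : (Nat.card (L.subgroupOf H1)).Coprime (L.subgroupOf H1).index := by
    have e1 : Nat.card (L.subgroupOf H1) = p ^ a := by
      rw [Nat.card_congr (Subgroup.subgroupOfEquivOfLe hLH).toEquiv, ha]
    have e2 : (L.subgroupOf H1).index = Nat.card H' := hrel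
    rw [e1, e2]
    exact (Nat.Coprime.pow_right a hcard).symm
  obtain ⟨H0, hH0⟩ := Subgroup.exists_right_complement'_of_coprime hco
  let H : Subgroup G := H0.map H1.subtype
  have hHcard : Nat.card H = Nat.card H' := by
    have e1 : Nat.card H = Nat.card H0 :=
      Nat.card_congr (H0.equivMapOfInjective H1.subtype H1.subtype_injective).toEquiv.symm
    have e2 := hH0.symm.index_eq_card
    rw [e1, ← e2]
    exact hrel
  have hHp : (Nat.card H).Coprime p := by rw [hHcard]; exact hcard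
  have hHH1 : H ≤ H1 := Subgroup.map_subtype_le H0
  have hdec : ∀ x ∈ H1, ∃ l ∈ L, ∃ h ∈ H, x = l * h := by
    intro x hx
    have := hH0.sup_eq_top
    have hx' : (⟨x, hx⟩ : H1) ∈ (L.subgroupOf H1) ⊔ H0 := by rw [this]; trivial
    rw [← SetLike.mem_coe, Subgroup.normal_mul] at hx'
    obtain ⟨y, hy, z, hz, hyz⟩ := hx'
    refine ⟨y, hy, z, ⟨z, hz, rfl⟩, ?_⟩
    have := congrArg (fun t : H1 => (t : G)) hyz
    exact this.symm
  have hcm : ∀ l ∈ L, ∀ h ∈ H1, l * h = h * l := fun l hl h hh =>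
    Subgroup.mem_centralizer_iff.1 (hcent hh) l hl
  have hLpe : ∀ l ∈ L, ∃ m, orderOf l = p ^ m := by
    intro l hl
    obtain ⟨m, hm⟩ := (IsPGroup.iff_orderOf.1 hLp) ⟨l, hl⟩
    exact ⟨m, by rw [← hm, Subgroup.orderOf_mk]⟩
  have hHn : H.Normal := by
    constructor
    intro h hh g
    obtain ⟨l, hl, h', hh', he⟩ := hdec (g * h * g⁻¹) (hH1n.conj_mem _ (hHH1 hh) g)
    have h1 : (g * h * g⁻¹) ^ Nat.card H = 1 := by
      have e1 : h ^ Nat.card H = 1 :=
        orderOf_dvd_iff_pow_eq_one.1 (Subgroup.orderOf_dvd_natCard H hh)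
      rw [conj_pow, e1]
      group
    have e2 : h' ^ Nat.card H = 1 :=
      orderOf_dvd_iff_pow_eq_one.1 (Subgroup.orderOf_dvd_natCard H hh')
    rw [he, (show Commute l h' from hcm l hl h' (hHH1 hh')).mul_pow, e2, mul_one] at h1
    have h2 : l = 1 := by
      refine eq_one_of_coprime_of_pow (p := p) ?_ (hLpe l hl)
      exact Nat.Coprime.coprime_dvd_left (orderOf_dvd_of_pow_eq_one h1) hHp
    rw [he, h2, one_mul]
    exact hh'
  have hidx : H.index = p ^ (a + k) := by
    have e1 := Subgroup.card_mul_index H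
    have e2 := Subgroup.card_mul_index H1
    have e3 : H1.index = p ^ k := by
      rw [← hk]
      exact Subgroup.index_comap_of_surjective _ (QuotientGroup.mk'_surjective L)
    have e4 := card_comap L H'
    have e5 : 0 < Nat.card H := Nat.card_pos
    apply Nat.eq_of_mul_eq_mul_left e5
    rw [e1, ← e2, e3]
    show Nat.card (H'.comap (QuotientGroup.mk' L)) * p ^ k = _
    rw [e4, ha, hHcard]
    ring
  refine ⟨H, hHn, hHp, ⟨_, hidx⟩, ?_⟩
  intro x hx h hh h1 hc
  have hhp : (orderOf h).Coprime p := order_coprime_of_mem hHp hh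
  have hxL : ∃ m, orderOf (x : G ⧸ L) = p ^ m := order_quot hp.out L hx
  have hnv : ¬ Vn (x * h) := fun hv => not_p_of_mixed hp.out hx hhp h1 hc (hV _ hv)
  have hhL : h ∉ L := by
    intro hhL
    exact h1 (eq_one_of_coprime_of_pow hhp (hLpe h hhL))
  have hc1 : (x : G ⧸ L) ∈ Subgroup.center (G ⧸ L) := by
    refine hcen _ hxL (h : G ⧸ L) (hHH1 hh) (fun h2 => hhL ((QuotientGroup.eq_one_iff h).1 h2)) ?_
    rw [← QuotientGroup.mk_mul, ← QuotientGroup.mk_mul, hc]
  have hc2 : (x : G ⧸ H) ∈ Subgroup.center (G ⧸ H) := by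
    by_contra hx'
    have hpg : IsPGroup p (G ⧸ H) := by
      apply IsPGroup.of_card (n := a + k)
      rw [← hidx]
      rfl
    have := hpg.isNilpotent
    have hv : Vn (x : G ⧸ H) := Vn.of_nilpotent hx'
    apply hnv
    apply Vn.of_quot H
    have : ((x * h : G) : G ⧸ H) = (x : G ⧸ H) := by
      rw [QuotientGroup.eq]
      have : (x * h)⁻¹ * x = h⁻¹ := by group
      rw [this]
      exact H.inv_mem hh
    rw [this]
    exact hv
  rw [Subgroup.mem_center_iff]
  intro g
  have hcomm : ∀ (N : Subgroup G) [N.Normal], (x : G ⧸ N) ∈ Subgroup.center (G ⧸ N) →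
      g * x * g⁻¹ * x⁻¹ ∈ N := by
    intro N _ hN
    rw [← QuotientGroup.eq_one_iff]
    have := Subgroup.mem_center_iff.1 hN (g : G ⧸ N)
    rw [QuotientGroup.mk_mul, QuotientGroup.mk_mul, QuotientGroup.mk_mul, this]
    simp
  have h6 := hcomm L hc1
  have h7 := hcomm H hc2
  have h8 : g * x * g⁻¹ * x⁻¹ = 1 :=
    eq_one_of_coprime_of_pow (order_coprime_of_mem hHp h7) (hLpe _ h6)
  rw [mul_inv_eq_one, mul_inv_eq_iff_eq_mul] at h8
  exact h8

/-- **The structure of solvable groups all of whose vanishing elements are `p`-elements.** -/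
theorem exists_str {p : ℕ} [hp : Fact p.Prime] :
    ∀ (n : ℕ) (G : Type u) [Group G] [Finite G] [Group.IsSolvable G], Nat.card G = n → VP p G →
      ∃ H : Subgroup G, Str p G H := by
  intro n
  induction n using Nat.strong_induction_on with
  | _ n ih =>
    intro G _ _ _ hn hV
    rcases subsingleton_or_nontrivial G with hs | hnt
    · refine ⟨⊥, inferInstance, by simp, ⟨0, ?_⟩, ?_⟩
      · rw [Subgroup.index_bot, pow_zero]
        exact Nat.card_eq_one_iff_unique.2 ⟨hs, ⟨1⟩⟩
      · intro x _ h hh h1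
        exact absurd (Subgroup.mem_bot.1 hh) h1
    · obtain ⟨q, L, hq, hLn, hLq, hLc, hLb, hmin⟩ := Cfsg.Agent.Solvable.Carter.exists_min_normal G
      have hLc' : ∀ a ∈ L, ∀ b ∈ L, a * b = b * a := fun a ha b hb =>
        setLike_mul_comm ha hb
      have hlt : Nat.card (G ⧸ L) < n := by
        have h1 := Subgroup.card_eq_card_quotient_mul_card_subgroup L
        have h2 : 1 < Nat.card L := by
          rw [Subgroup.one_lt_card_iff_ne_bot]; exact hLb
        have h3 : 0 < Nat.card (G ⧸ L) := Nat.card_pos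
        rw [← hn, h1]
        nlinarith
      obtain ⟨H', hH'⟩ := ih _ hlt (G ⧸ L) rfl (hV.quot hp.out L)
      by_cases hqp : q = p
      · subst hqp
        exact step_p hV L hLq hLc' hH'
      · refine ⟨_, step_q hV L ?_ hLc' hLb hmin hH'⟩
        have : Fact q.Prime := ⟨hq⟩
        obtain ⟨a, ha⟩ := (IsPGroup.iff_card (p := q) (G := L)).1 hLq
        rw [ha]
        exact Nat.Coprime.pow_left a ((Nat.coprime_primes hq hp.out).2 hqp)

end Cfsg.Agent.H690.SolvStruct
end

-- part: H620/Solv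
section
set_option linter.all false
open scoped Cfsg.Agent.FastGrp

/-!
# Solvable groups in which no irreducible character vanishes on `r`-elements (helper620)

* `step`: the coprime abelian case, by a regular orbit of the centre of a Sylow subgroup;
* `normal_sylow`: in a solvable group without vanishing `r`-elements the Sylow `r`-subgroup is
  normal;
* `exists_compl`: if all Sylow `r`-subgroups with `r ≠ p` are normal then there is a nilpotent
  normal `p`-complement.
-/

set_option autoImplicit false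

namespace Cfsg.Agent.H620.Solv

open Cfsg Cfsg.Agent.Characters Cfsg.Agent.H690.Van Cfsg.Agent.H690.SolvStruct
open scoped Pointwise

universe u

variable {G : Type u} [Group G]

/-- No irreducible character vanishes on an `r`-element. -/
def NV (r : ℕ) (G : Type u) [Group G] : Prop := ∀ g : G, (∃ m, orderOf g = r ^ m) → ¬ Vn g

theorem exists_lift_pow [Finite G] (K : Subgroup G) [K.Normal] {r : ℕ} (hr : r.Prime) (g : G)
    (hg : ∃ m, orderOf (g : G ⧸ K) = r ^ m) :
    ∃ g' : G, (g' : G ⧸ K) = g ∧ ∃ m, orderOf g' = r ^ m := by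
  obtain ⟨m, hm⟩ := hg
  have hpos : orderOf g ≠ 0 := (orderOf_pos g).ne'
  set P := ordProj[r] (orderOf g) with hP
  set M := ordCompl[r] (orderOf g) with hM
  have hPM : P * M = orderOf g := Nat.ordProj_mul_ordCompl_eq_self _ r
  have hcop : Nat.Coprime P M := Nat.Coprime.pow_left _ (Nat.coprime_ordCompl hr hpos)
  obtain ⟨c, hc1, hc2⟩ := Nat.chineseRemainder hcop 1 0
  refine ⟨g ^ c, ?_, ?_⟩
  · rw [QuotientGroup.mk_pow]
    have h1 : orderOf (g : G ⧸ K) ∣ P := by
      have h2 : orderOf (g : G ⧸ K) ∣ P * M := by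
        rw [hPM]; exact orderOf_map_dvd (QuotientGroup.mk' K) g
      have h3 : Nat.Coprime (orderOf (g : G ⧸ K)) M := by
        rw [hm]
        exact Nat.Coprime.pow_left _ (Nat.coprime_ordCompl hr hpos)
      exact h3.dvd_of_dvd_mul_right h2
    have h4 : c ≡ 1 [MOD orderOf (g : G ⧸ K)] := hc1.of_dvd h1
    have h5 := pow_eq_pow_iff_modEq.2 h4
    rwa [pow_one] at h5
  · have h1 : (g ^ c) ^ P = 1 := by
      rw [← pow_mul]
      apply orderOf_dvd_iff_pow_eq_one.1
      rw [← hPM, mul_comm c P]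
      exact Nat.mul_dvd_mul dvd_rfl (Nat.modEq_zero_iff_dvd.1 hc2)
    obtain ⟨k, -, hk⟩ := (Nat.dvd_prime_pow hr).1 (orderOf_dvd_of_pow_eq_one h1)
    exact ⟨k, hk⟩

theorem NV.quot [Finite G] {r : ℕ} (hr : r.Prime) (h : NV r G) (N : Subgroup G) [N.Normal] :
    NV r (G ⧸ N) := by
  intro g hg hv
  obtain ⟨g, rfl⟩ := QuotientGroup.mk_surjective g
  obtain ⟨g', h1, h2⟩ := exists_lift_pow N hr g hg
  rw [← h1] at hv
  exact h g' h2 (Vn.of_quot N hv)

/-- The coprime abelian case. -/
theorem step [Finite G] {r : ℕ} [hr : Fact r.Prime] (hV : NV r G) (N : Subgroup G)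
    [hN : N.Normal] (hNr : (Nat.card N).Coprime r) (hNc : ∀ a ∈ N, ∀ b ∈ N, a * b = b * a)
    (R : Sylow r G) (hRN : ((R : Subgroup G) ⊔ N).Normal)
    (hcore : ∀ K : Subgroup G, K.Normal → IsPGroup r K → K = ⊥) : (R : Subgroup G) = ⊥ := by
  classical
  let C : Subgroup G := Subgroup.centralizer (N : Set G)
  have hCn : C.Normal := inferInstance
  have hCmem : ∀ x, x ∈ C ↔ ∀ n ∈ N, n * x = x * n := fun x => Subgroup.mem_centralizer_iff
  have hNC : N ≤ C := fun x hx => (hCmem x).2 fun n hn => hNc n hn x hx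
  have hRo : ∀ x ∈ (R : Subgroup G), ∃ m, orderOf x = r ^ m := by
    intro x hx
    obtain ⟨m, hm⟩ := (IsPGroup.iff_orderOf.1 R.2) ⟨x, hx⟩
    exact ⟨m, by rw [← hm, Subgroup.orderOf_mk]⟩
  -- `C_R(N) = 1`
  have hD : (R : Subgroup G) ⊓ C = ⊥ := by
    apply hcore
    · constructor
      intro d hd g
      obtain ⟨hd1, hd2⟩ := Subgroup.mem_inf.1 hd
      have h1 : g * d * g⁻¹ ∈ (R : Subgroup G) ⊔ N :=
        hRN.conj_mem d (Subgroup.mem_sup_left hd1) g
      rw [← SetLike.mem_coe, Subgroup.mul_normal] at h1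
      obtain ⟨y, hy, n, hn, hyn⟩ := h1
      have h2 : g * d * g⁻¹ ∈ C := hCn.conj_mem d hd2 g
      have hyn' : y * n = g * d * g⁻¹ := hyn
      have h3 : y ∈ C := by
        have : y = (g * d * g⁻¹) * n⁻¹ := by rw [← hyn']; group
        rw [this]
        exact C.mul_mem h2 (C.inv_mem (hNC hn))
      obtain ⟨m, hm⟩ := hRo d hd1
      obtain ⟨k, hk⟩ := hRo y hy
      have hcomm : Commute y n := ((hCmem y).1 h3 n hn).symm
      have h4 : n ^ (r ^ (m + k)) = 1 := by
        have e1 : (y * n) ^ (r ^ (m + k)) = 1 := by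
          rw [hyn', conj_pow, pow_add, pow_mul, ← hm, pow_orderOf_eq_one, one_pow, mul_one,
            mul_inv_cancel]
        have e2 : y ^ (r ^ (m + k)) = 1 := by
          rw [add_comm, pow_add, pow_mul, ← hk, pow_orderOf_eq_one, one_pow]
        rw [hcomm.mul_pow, e2, one_mul] at e1
        exact e1
      have h5 : n = 1 := by
        have h6 : (orderOf n).Coprime (r ^ (m + k)) :=
          Nat.Coprime.pow_right _
            (Nat.Coprime.coprime_dvd_left (Subgroup.orderOf_dvd_natCard N hn) hNr)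
        exact orderOf_eq_one_iff.1
          (Nat.Coprime.eq_one_of_dvd h6 (orderOf_dvd_of_pow_eq_one h4))
      rw [← hyn', h5, mul_one]
      exact Subgroup.mem_inf.2 ⟨hy, h3⟩
    · exact R.2.to_le inf_le_left
  by_contra hRb
  have hnt : Nontrivial (R : Subgroup G) := (Subgroup.nontrivial_iff_ne_bot _).2 hRb
  have hZnt := R.2.center_nontrivial
  obtain ⟨⟨z, hz⟩, hz1⟩ := exists_ne (1 : Subgroup.center (R : Subgroup G))
  have hz1' : (z : G) ≠ 1 := fun h => hz1 (Subtype.ext (Subtype.ext h))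
  let Z : Subgroup G := (Subgroup.center (R : Subgroup G)).map (R : Subgroup G).subtype
  have hZmem : ∀ x, x ∈ Z ↔ x ∈ (R : Subgroup G) ∧ ∀ y ∈ (R : Subgroup G), y * x = x * y := by
    intro x
    constructor
    · rintro ⟨w, hw, rfl⟩
      refine ⟨w.2, fun y hy => ?_⟩
      exact congrArg Subtype.val ((Subgroup.mem_center_iff.1 hw) ⟨y, hy⟩)
    · rintro ⟨h1, h2⟩
      refine ⟨⟨x, h1⟩, Subgroup.mem_center_iff.2 fun y => Subtype.ext (h2 y y.2), rfl⟩
  have hZR : Z ≤ (R : Subgroup G) := Subgroup.map_subtype_le _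
  have hzZ : (z : G) ∈ Z := ⟨z, hz, rfl⟩
  let K : Subgroup G := Z ⊔ N
  -- Frattini
  have hfrat : ∀ g : G, ∃ h ∈ Subgroup.normalizer ((R : Subgroup G) : Set G), ∃ n ∈ N, g = h * n := by
    intro g
    have h1 := Sylow.normalizer_sup_eq_top' R (le_sup_left : (R : Subgroup G) ≤ (R : Subgroup G) ⊔ N)
    have h2 : Subgroup.normalizer ((R : Subgroup G) : Set G) ⊔ N = ⊤ := by
      rw [eq_top_iff, ← h1]
      refine sup_le le_sup_left (sup_le ?_ le_sup_right)
      exact (Subgroup.le_normalizer).trans le_sup_left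
    have hg : g ∈ Subgroup.normalizer ((R : Subgroup G) : Set G) ⊔ N := by rw [h2]; trivial
    rw [← SetLike.mem_coe, Subgroup.mul_normal] at hg
    obtain ⟨h, hh, n, hn, e⟩ := hg
    exact ⟨h, hh, n, hn, e.symm⟩
  have hKn : K.Normal := by
    have key : ∀ g : G, K.map (MulAut.conj g).toMonoidHom ≤ K := by
      intro g
      rw [Subgroup.map_sup]
      refine sup_le ?_ ?_
      · rintro _ ⟨x, hx, rfl⟩
        obtain ⟨h, hh, n, hn, rfl⟩ := hfrat g
        show h * n * x * (h * n)⁻¹ ∈ K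
        have e1 : h * n * x * (h * n)⁻¹ = (h * x * h⁻¹) * ((h * (x⁻¹ * n * x) * h⁻¹) * (h * n⁻¹ * h⁻¹)) := by
          group
        rw [e1]
        refine K.mul_mem (Subgroup.mem_sup_left ?_) (Subgroup.mem_sup_right (N.mul_mem ?_ ?_))
        · obtain ⟨hx1, hx2⟩ := (hZmem x).1 hx
          refine (hZmem _).2 ⟨(Subgroup.mem_normalizer_iff.1 hh x).1 hx1, fun y hy => ?_⟩
          have hy' : h⁻¹ * y * h ∈ (R : Subgroup G) := by
            have := (Subgroup.mem_normalizer_iff.1 hh (h⁻¹ * y * h)).2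
            apply this
            convert hy using 1
            group
          have := hx2 _ hy'
          calc y * (h * x * h⁻¹) = h * ((h⁻¹ * y * h) * x) * h⁻¹ := by group
            _ = h * (x * (h⁻¹ * y * h)) * h⁻¹ := by rw [this]
            _ = h * x * h⁻¹ * y := by group
        · apply hN.conj_mem
          have := hN.conj_mem n hn x⁻¹
          simpa using this
        · exact hN.conj_mem _ (N.inv_mem hn) h
      · rintro _ ⟨x, hx, rfl⟩
        exact Subgroup.mem_sup_right (hN.conj_mem x hx g)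
    constructor
    intro x hx g
    exact key g ⟨x, hx, rfl⟩
  -- the action on `N`
  let _ : CommGroup N := { (inferInstance : Group N) with
    mul_comm := fun a b => Subtype.ext (hNc a a.2 b b.2) }
  let φ : K →* MulAut N := (MulAut.conjNormal (H := N)).comp K.subtype
  have hφ : ∀ (k : K) (n : N), ((φ k n : N) : G) = k * n * (k : G)⁻¹ := fun k n => rfl
  have hφ1 : ∀ k : K, φ k = 1 ↔ (k : G) ∈ C := by
    intro k
    constructor
    · intro h
      rw [hCmem]
      intro n hn
      have := hφ k ⟨n, hn⟩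
      rw [h] at this
      have h2 : n = k * n * (k : G)⁻¹ := this
      rw [eq_mul_inv_iff_mul_eq] at h2
      exact h2
    · intro h
      ext n
      rw [hφ]
      have := (hCmem _).1 h n n.2
      show (k : G) * n * (k : G)⁻¹ = n
      rw [← this, mul_inv_cancel_right]
  have hdec : ∀ k : K, ∃ z ∈ Z, ∃ n ∈ N, (k : G) = z * n := by
    intro k
    have hk := k.2
    rw [← SetLike.mem_coe, Subgroup.mul_normal] at hk
    obtain ⟨h, hh, n, hn, e⟩ := hk
    exact ⟨h, hh, n, hn, e.symm⟩
  have hφab : ∀ a b, φ (a * b) = φ (b * a) := by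
    intro a b
    have h1 : φ (a * b * (b * a)⁻¹) = 1 := by
      rw [hφ1]
      obtain ⟨z1, hz1, n1, hn1, e1⟩ := hdec a
      obtain ⟨z2, hz2, n2, hn2, e2⟩ := hdec b
      have e3 : ((a * b * (b * a)⁻¹ : K) : G) = z1 * n1 * (z2 * n2) * (z2 * n2 * (z1 * n1))⁻¹ := by
        rw [← e1, ← e2]; rfl
      rw [e3]
      apply hNC
      have e4 : z1 * z2 = z2 * z1 := ((hZmem z2).1 hz2).2 z1 (hZR hz1)
      have e5 : z1 * n1 * (z2 * n2) * (z2 * n2 * (z1 * n1))⁻¹ =
        (z1 * n1 * z1⁻¹) * (z1 * z2) * n2 * n1⁻¹ * (z2 * z1)⁻¹ * (z2 * n2⁻¹ * z2⁻¹) := by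
        group
      have : z1 * n1 * (z2 * n2) * (z2 * n2 * (z1 * n1))⁻¹ =
        (z1 * n1 * z1⁻¹) * ((z1 * z2) * (n2 * n1⁻¹ * (z1⁻¹ * n2⁻¹ * z1)) * (z1 * z2)⁻¹) := by
        rw [e4]
        have e6 : z2⁻¹ * z1⁻¹ = z1⁻¹ * z2⁻¹ := by rw [← mul_inv_rev, ← mul_inv_rev, e4]
        calc z1 * n1 * (z2 * n2) * (z2 * n2 * (z1 * n1))⁻¹
            = z1 * n1 * z2 * n2 * n1⁻¹ * z1⁻¹ * n2⁻¹ * z2⁻¹ := by group
          _ = z1 * n1 * z1⁻¹ * (z1 * z2) * (n2 * n1⁻¹ * (z1⁻¹ * n2⁻¹ * z1)) * (z1⁻¹ * z2⁻¹) := by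
              group
          _ = z1 * n1 * z1⁻¹ * (z1 * z2) * (n2 * n1⁻¹ * (z1⁻¹ * n2⁻¹ * z1)) * (z2⁻¹ * z1⁻¹) := by
              rw [e6]
          _ = _ := by rw [e4, e6, mul_inv_rev, ← e6]; group
      rw [this]
      refine N.mul_mem (hN.conj_mem _ hn1 z1) (hN.conj_mem _ (N.mul_mem (N.mul_mem hn2 (N.inv_mem hn1)) ?_) _)
      have := hN.conj_mem _ (N.inv_mem hn2) z1⁻¹
      simpa using this
    rw [map_mul, map_inv, mul_inv_eq_one] at h1
    exact h1
  have hcard : (Nat.card φ.range).Coprime (Nat.card N) := by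
    have h1 : IsPGroup r φ.range := by
      rintro ⟨_, k, rfl⟩
      obtain ⟨z, hz, n, hn, e⟩ := hdec k
      obtain ⟨m, hm⟩ := hRo z (hZR hz)
      refine ⟨m, Subtype.ext ?_⟩
      have hzK : z ∈ K := Subgroup.mem_sup_left hz
      have hnK : n ∈ K := Subgroup.mem_sup_right hn
      have e1 : k = ⟨z, hzK⟩ * ⟨n, hnK⟩ := Subtype.ext e
      have e2 : φ ⟨n, hnK⟩ = 1 := (hφ1 _).2 (hNC hn)
      have e3 : φ k = φ ⟨z, hzK⟩ := by rw [e1, map_mul, e2, mul_one]
      show (φ k) ^ (r ^ m) = 1
      rw [e3, ← map_pow]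
      have e4 : (⟨z, hzK⟩ : K) ^ (r ^ m) = 1 := by
        apply Subtype.ext
        show z ^ (r ^ m) = 1
        rw [← hm, pow_orderOf_eq_one]
      rw [e4, map_one]
    obtain ⟨m, hm⟩ := (IsPGroup.iff_card).1 h1
    rw [hm]
    exact Nat.Coprime.pow_left m hNr.symm
  obtain ⟨l, hl⟩ := Cfsg.Agent.H690.RegOrb.exists_char φ hφab hcard
  have hirr : IsIrrCharacter N (fun x => ((l x : ℂˣ) : ℂ)) := Linear.isIrrCharacter_hom l
  have hzC : (z : G) ∉ C := by
    intro h
    have : (z : G) ∈ (R : Subgroup G) ⊓ C := Subgroup.mem_inf.2 ⟨z.2, h⟩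
    rw [hD, Subgroup.mem_bot] at this
    exact hz1' this
  have hv : Vn (z : G) := by
    refine Vn.of_not_inertia N _ hirr _ ?_
    intro g hg
    have hgy : g * (z : G) * g⁻¹ ∈ K := hKn.conj_mem _ (Subgroup.mem_sup_left hzZ) g
    have h1 : φ ⟨g * (z : G) * g⁻¹, hgy⟩ = 1 := by
      apply hl
      intro x
      apply Units.ext
      have := hg x
      rw [← this]
      congr 2
    have h2 : g * (z : G) * g⁻¹ ∈ C := (hφ1 _).1 h1
    have h3 := hCn.conj_mem _ h2 g⁻¹
    apply hzC
    convert h3 using 1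
    group
  exact hV _ (hRo z z.2) hv

/-- A Sylow subgroup whose image in the quotient is normal. -/
theorem sup_normal_of_quot [Finite G] {r : ℕ} [Fact r.Prime] (N : Subgroup G) [N.Normal]
    (R : Sylow r G) (h : ∀ S : Sylow r (G ⧸ N), (S : Subgroup (G ⧸ N)).Normal) :
    ((R : Subgroup G) ⊔ N).Normal := by
  have h1 := h (R.mapSurjective (QuotientGroup.mk'_surjective N))
  rw [Sylow.coe_mapSurjective] at h1
  have h2 := h1.comap (QuotientGroup.mk' N)
  rw [Subgroup.comap_map_eq, QuotientGroup.ker_mk'] at h2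
  exact h2

/-- In a solvable group without vanishing `r`-elements the Sylow `r`-subgroup is normal. -/
theorem normal_sylow {r : ℕ} [hr : Fact r.Prime] :
    ∀ (n : ℕ) (G : Type u) [Group G] [Finite G] [Group.IsSolvable G], Nat.card G = n → NV r G →
      ∀ R : Sylow r G, (R : Subgroup G).Normal := by
  intro n
  induction n using Nat.strong_induction_on with
  | _ n ih =>
    intro G _ _ _ hn hV R
    rcases subsingleton_or_nontrivial G with hs | hnt
    · have : (R : Subgroup G) = ⊥ := Subsingleton.elim _ _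
      rw [this]
      infer_instance
    have hlt : ∀ L : Subgroup G, L ≠ ⊥ → Nat.card (G ⧸ L) < n := by
      intro L hLb
      have h1 := Subgroup.card_eq_card_quotient_mul_card_subgroup L
      have h2 : 1 < Nat.card L := by
        rw [Subgroup.one_lt_card_iff_ne_bot]; exact hLb
      have h3 : 0 < Nat.card (G ⧸ L) := Nat.card_pos
      rw [← hn, h1]
      nlinarith
    by_cases hcore : ∀ K : Subgroup G, K.Normal → IsPGroup r K → K = ⊥
    · obtain ⟨q, L, hq, hLn, hLq, hLc, hLb, hmin⟩ :=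
        Cfsg.Agent.Solvable.Carter.exists_min_normal G
      have hLc' : ∀ a ∈ L, ∀ b ∈ L, a * b = b * a := fun a ha b hb => setLike_mul_comm ha hb
      have hqr : q ≠ r := by
        rintro rfl
        exact hLb (hcore L hLn hLq)
      have : Fact q.Prime := ⟨hq⟩
      obtain ⟨a, ha⟩ := (IsPGroup.iff_card (p := q) (G := L)).1 hLq
      have h1 := sup_normal_of_quot L R (fun S => ih _ (hlt L hLb) (G ⧸ L) rfl
        (hV.quot hr.out L) S)
      have h2 := step hV L (by
        rw [ha]
        exact Nat.Coprime.pow_left a ((Nat.coprime_primes hq hr.out).2 hqr)) hLc' R h1 hcore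
      rw [h2]
      infer_instance
    · push Not at hcore
      obtain ⟨K, hKn, hKr, hKb⟩ := hcore
      have h1 := sup_normal_of_quot K R (fun S => ih _ (hlt K hKb) (G ⧸ K) rfl
        (hV.quot hr.out K) S)
      have h2 : K ≤ (R : Subgroup G) := by
        have h3 : IsPGroup r (K ⊔ (R : Subgroup G) : Subgroup G) :=
          hKr.to_sup_of_normal_left R.2
        have h4 := R.3 h3 le_sup_right
        rw [← h4]
        exact le_sup_left
      rwa [sup_eq_left.2 h2] at h1

/-- A nilpotent normal `p`-complement from normal Sylow subgroups. -/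
theorem exists_compl [Finite G] (p : ℕ) [hp : Fact p.Prime]
    (h : ∀ r : ℕ, ∀ _ : Fact r.Prime, r ≠ p → ∀ R : Sylow r G, (R : Subgroup G).Normal)
    (P : Sylow p G) :
    ∃ N : Subgroup G, N.Normal ∧ Group.IsNilpotent N ∧ N.IsComplement' (P : Subgroup G) := by
  classical
  let 𝒮 : Set (Subgroup G) := {N | N.Normal ∧ Group.IsNilpotent N ∧ (Nat.card N).Coprime p}
  have hne : 𝒮.Nonempty := ⟨⊥, inferInstance, inferInstance, by simp⟩
  obtain ⟨N, ⟨hN1, hN2, hN3⟩, hmax⟩ := (Set.toFinite 𝒮).exists_maximal hne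
  refine ⟨N, hN1, hN2, ?_⟩
  -- `N` contains all Sylow `r`-subgroups, `r ≠ p`
  have hR : ∀ r : ℕ, ∀ _ : Fact r.Prime, r ≠ p → ∀ R : Sylow r G, (R : Subgroup G) ≤ N := by
    intro r hr hrp R
    have hRn := h r hr hrp R
    have hRnil : Group.IsNilpotent (R : Subgroup G) := R.2.isNilpotent
    have h1 : N ⊔ (R : Subgroup G) ∈ 𝒮 := by
      refine ⟨inferInstance, Cfsg.Agent.Lib.Cores.isNilpotent_sup hN1 hRn hN2 hRnil, ?_⟩
      have h2 : Nat.card (N ⊔ (R : Subgroup G) : Subgroup G) ∣
          Nat.card N * Nat.card (R : Subgroup G) := by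
        have h3 := Subgroup.relIndex_mul_relIndex (⊥ : Subgroup G) N (N ⊔ (R : Subgroup G))
          bot_le le_sup_left
        rw [Subgroup.relIndex_bot_left, Subgroup.relIndex_bot_left, Subgroup.relIndex_sup_left] at h3
        rw [← h3]
        exact Nat.mul_dvd_mul_left _ (Subgroup.relIndex_dvd_card N (R : Subgroup G))
      obtain ⟨m, hm⟩ := (IsPGroup.iff_card).1 R.2
      refine Nat.Coprime.coprime_dvd_left h2 (Nat.Coprime.mul_left hN3 ?_)
      rw [hm]
      exact Nat.Coprime.pow_left m ((Nat.coprime_primes hr.out hp.out).2 hrp)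
    exact le_sup_right.trans (hmax h1 le_sup_left)
  have hidx : ∀ r : ℕ, r.Prime → r ≠ p → ¬ r ∣ N.index := by
    intro r hr hrp hd
    have : Fact r.Prime := ⟨hr⟩
    let R : Sylow r G := default
    exact R.not_dvd_index (hd.trans (Subgroup.index_dvd_of_le (hR r ‹_› hrp R)))
  have hpow : ∃ k, N.index = p ^ k := by
    have h0 : N.index ∣ p ^ N.index := by
      rw [← Nat.factorization_le_iff_dvd Subgroup.index_ne_zero_of_finite
        (pow_ne_zero _ hp.out.ne_zero)]
      intro r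
      by_cases hr : r.Prime
      · by_cases hrp : r = p
        · subst hrp
          rw [Nat.Prime.factorization_pow hr, Finsupp.single_eq_same]
          exact (Nat.factorization_lt _ Subgroup.index_ne_zero_of_finite).le
        · rw [Nat.factorization_eq_zero_of_not_dvd (hidx r hr hrp)]
          exact Nat.zero_le _
      · rw [Nat.factorization_eq_zero_of_not_prime _ hr]
        exact Nat.zero_le _
    obtain ⟨k, -, hk⟩ := (Nat.dvd_prime_pow hp.out).1 h0
    exact ⟨k, hk⟩
  obtain ⟨k, hk⟩ := hpow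
  have hcard := Subgroup.card_mul_index N
  have hPc : Nat.card (P : Subgroup G) = N.index := by
    rw [P.card_eq_multiplicity, ← hcard, Nat.factorization_mul Nat.card_pos.ne'
      Subgroup.index_ne_zero_of_finite, Finsupp.add_apply,
      Nat.factorization_eq_zero_of_not_dvd ((Nat.Prime.coprime_iff_not_dvd hp.out).1 hN3.symm),
      zero_add, hk, Nat.Prime.factorization_pow hp.out, Finsupp.single_eq_same]
  refine Subgroup.isComplement'_of_coprime ?_ ?_
  · rw [hPc, hcard]
  · rw [hPc, hk]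
    exact Nat.Coprime.pow_right k hN3

end Cfsg.Agent.H620.Solv
end
end
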