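import Cfsg.Agent.H665.DefZero
import Cfsg.Agent.H419.Count_m3
import Cfsg.Agent.Characters.DefectZero
import Cfsg.Agent.Prune
set_option linter.all false
prune_inst 0x7f00000000000000000000000000000000000000000000000000000000000000000000000000000000000000000000000000000000000000000000000000000000000000000000000000000000000000003fffffffffffffffffffffffffffbeffbdffffffff
open scoped Cfsg.Agent.FastGrp

/-!
# Characters vanishing on all elements of order divisible by `t` (helper620)

* `Kill G t`: some irreducible character of `G` vanishes at all elements of order divisible by `t`;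
* `kill_of_dz`: characters of `t`-defect zero do this;
* `kill_or`: from helper665's class multiplication argument;
* `row56_of_kill`, `row57_of_kill`, `row57_of_three`.
-/

set_option autoImplicit false

namespace Cfsg.Agent.H620

open Cfsg Cfsg.Agent.Characters.Core Cfsg.Agent.H713

/-- Some irreducible character vanishes at all elements of order divisible by `t`. -/
def Kill (G : Type*) [Group G] (t : ℕ) : Prop :=
  ∃ θ : IrrCharacter G, ∀ g : G, t ∣ orderOf g → (θ : G → ℂ) g = 0

theorem Kill.vz {G : Type*} [Group G] {t : ℕ} (h : Kill G t) {x : G} (hx : t ∣ orderOf x) :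
    VZ G x := by
  obtain ⟨θ, hθ⟩ := h
  refine ⟨θ, fun α => hθ _ ?_⟩
  rwa [MulEquiv.orderOf_eq]

theorem Kill.mulEquiv {G : Type*} [Group G] {H : Type*} [Group H] {t : ℕ} (h : Kill G t)
    (e : G ≃* H) : Kill H t := by
  obtain ⟨θ, hθ⟩ := h
  refine ⟨⟨(θ : G → ℂ) ∘ e.symm, isIrr_comp (e.symm : H →* G) e.symm.surjective θ.2⟩, fun g hg => ?_⟩
  apply hθ
  rwa [MulEquiv.orderOf_eq]

/-- Characters of defect zero vanish on singular elements. -/
theorem kill_of_dvd {G : Type*} [Group G] [Finite G] (p : ℕ) [hp : Fact p.Prime] {χ : G → ℂ}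
    (hχ : IsIrrCharacter G χ) (d : ℕ) (hd : χ 1 = d)
    (h : p ^ (Nat.card G).factorization p ∣ d) : Kill G p := by
  refine ⟨⟨χ, hχ⟩, fun g hg => ?_⟩
  obtain ⟨n, ρ, hρ, rfl⟩ := hχ
  have : Fintype G := Fintype.ofFinite G
  have h1 := Cfsg.Agent.Characters.DefectZero.character_inv_eq_zero ρ hρ p
    ((Nat.card G).factorization p) hp.out (Nat.ordProj_dvd _ _)
    (Nat.pow_succ_factorization_not_dvd Nat.card_pos.ne' hp.out) ?_ g⁻¹ (by rwa [orderOf_inv])
  · rwa [inv_inv] at h1
  · have h2 : ρ.character 1 = (Module.finrank ℂ (Fin n → ℂ) : ℂ) := Representation.char_one ρ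
    have h3 : Module.finrank ℂ (Fin n → ℂ) = d := by
      have := h2.symm.trans hd
      exact_mod_cast this
    rw [h3]
    exact h

theorem kill_of_dz {G : Type*} [Group G] [Finite G] (p : ℕ) [hp : Fact p.Prime]
    (χ : IrrCharacter G)
    (h : (charDegree (χ : G → ℂ)).factorization p = (Nat.card G).factorization p) : Kill G p := by
  refine kill_of_dvd p χ.2 (charDegree (χ : G → ℂ))
    (Cfsg.Agent.Blocks.Basic.irr_one_eq_charDegree χ.2) ?_
  rw [← h]
  exact Nat.ordProj_dvd _ _

/-- The class multiplication argument of helper665. -/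
theorem kill_or {G : Type*} [Group G] [Finite G] (p : ℕ) [hp : Fact p.Prime] (s : G)
    (hs : ∀ x : G, x * s = s * x → x ^ p = 1 → x = 1)
    (hc : ∀ g h : G, IsConj s g → IsConj s h → (∃ k : ℕ, orderOf (g * h⁻¹) = p ^ k) → g * h⁻¹ = 1) :
    Kill G p := by
  have h1 : ¬ p ∣ Nat.card (Subgroup.centralizer ({s} : Set G)) := by
    intro hd
    obtain ⟨⟨x, hx⟩, hx1⟩ := exists_prime_orderOf_dvd_card' p hd
    have h2 : x = 1 := hs x ((Subgroup.mem_centralizer_singleton_iff).1 hx) (by
      have := pow_orderOf_eq_one (⟨x, hx⟩ : Subgroup.centralizer ({s} : Set G))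
      rw [hx1] at this
      exact congrArg Subtype.val this)
    have h3 : (⟨x, hx⟩ : Subgroup.centralizer ({s} : Set G)) = 1 := Subtype.ext h2
    rw [h3, orderOf_one] at hx1
    exact hp.out.one_lt.ne hx1
  rcases Cfsg.Agent.H665.DefZero.defectZero_or p s h1 with ⟨χ, hχ⟩ | ⟨g, h, hg, hh, hne, hk⟩
  · exact kill_of_dz p χ hχ
  · exact absurd (hc g h hg hh hk) hne

/-- `S4556` row from two killed primes. -/
theorem row56_of_kill {S : Type*} [Group S] [Finite S] (r t : ℕ) (hr : r.Prime) (ht : t.Prime)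
    (hrt : r ≠ t) (h1 : Kill S r) (h2 : Kill S t) (hr' : r ∣ Nat.card S) (ht' : t ∣ Nat.card S) :
    Row56 S := by
  intro p hp
  have : Fact r.Prime := ⟨hr⟩
  have : Fact t.Prime := ⟨ht⟩
  obtain ⟨x, hx⟩ := exists_prime_orderOf_dvd_card' r hr'
  obtain ⟨y, hy⟩ := exists_prime_orderOf_dvd_card' t ht'
  by_cases hpr : p = r
  · refine ⟨y, h2.vz (by rw [hy]), ?_⟩
    rw [hy, hpr]
    intro hd
    exact hrt ((Nat.prime_dvd_prime_iff_eq hr ht).1 hd)
  · refine ⟨x, h1.vz (by rw [hx]), ?_⟩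
    rw [hx]
    intro hd
    exact hpr ((Nat.prime_dvd_prime_iff_eq hp hr).1 hd)

theorem prime_mem_of_pow_mul_pow {p q a b r n : ℕ} (hp : p.Prime) (hq : q.Prime) (hr : r.Prime)
    (h : n = p ^ a * q ^ b) (hd : r ∣ n) : r = p ∨ r = q := by
  rw [h] at hd
  rcases hr.dvd_mul.1 hd with h1 | h1
  · exact Or.inl ((Nat.prime_dvd_prime_iff_eq hr hp).1 (hr.dvd_of_dvd_pow h1))
  · exact Or.inr ((Nat.prime_dvd_prime_iff_eq hr hq).1 (hr.dvd_of_dvd_pow h1))

/-- `S4557` row from two killed primes and a mixed element. -/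
theorem row57_of_kill {S : Type*} [Group S] [Finite S] (r t s : ℕ) (hr : r.Prime) (ht : t.Prime)
    (hs : s.Prime) (hrt : r ≠ t) (hsr : s ≠ r) (hst : s ≠ t) (h1 : Kill S r) (h2 : Kill S t)
    (ht' : t ∣ Nat.card S) (x : S) (hxr : r ∣ orderOf x)
    (hxs : s ∣ orderOf x) : Row57 S := by
  intro p q hp hq
  have : Fact t.Prime := ⟨ht⟩
  obtain ⟨y, hy⟩ := exists_prime_orderOf_dvd_card' t ht'
  by_cases hty : t = p ∨ t = q
  · refine ⟨x, h1.vz hxr, ?_⟩
    rintro ⟨a, b, hab⟩
    have e1 := prime_mem_of_pow_mul_pow hp hq hr hab hxr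
    have e2 := prime_mem_of_pow_mul_pow hp hq hs hab hxs
    rcases hty with rfl | rfl
    · rcases e1 with rfl | rfl
      · exact hrt rfl
      · rcases e2 with rfl | rfl
        · exact hst rfl
        · exact hsr rfl
    · rcases e1 with rfl | rfl
      · rcases e2 with rfl | rfl
        · exact hsr rfl
        · exact hst rfl
      · exact hrt rfl
  · refine ⟨y, h2.vz (by rw [hy]), ?_⟩
    rintro ⟨a, b, hab⟩
    exact hty (prime_mem_of_pow_mul_pow hp hq ht hab (by rw [hy]))

/-- `S4557` row from three vanishing elements of prime orders. -/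
theorem row57_of_three {S : Type*} [Group S] (x : Fin 3 → S) (p : Fin 3 → ℕ)
    (hp : ∀ i, (p i).Prime) (hinj : Function.Injective p) (hx : ∀ i, p i ∣ orderOf (x i))
    (hv : ∀ i, VZ S (x i)) : Row57 S := by
  intro a b ha hb
  by_contra hcon
  push Not at hcon
  have h1 : ∀ i, p i = a ∨ p i = b := by
    intro i
    obtain ⟨c, d, hcd⟩ := hcon (x i) (hv i)
    exact prime_mem_of_pow_mul_pow ha hb (hp i) hcd (hx i)
  have e01 : p 0 ≠ p 1 := fun h => absurd (hinj h) (by decide)
  have e02 : p 0 ≠ p 2 := fun h => absurd (hinj h) (by decide)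
  have e12 : p 1 ≠ p 2 := fun h => absurd (hinj h) (by decide)
  have h0 := h1 0
  have h2 := h1 2
  have h3 := h1 1
  rcases h0 with h0 | h0 <;> rcases h2 with h2 | h2 <;> rcases h3 with h3 | h3 <;>
    simp_all

/-- `S4557` row from three killed primes. -/
theorem row57_of_kill_three {S : Type*} [Group S] [Finite S] (p : Fin 3 → ℕ)
    (hp : ∀ i, (p i).Prime) (hinj : Function.Injective p) (hd : ∀ i, p i ∣ Nat.card S)
    (hv : ∀ i, Kill S (p i)) : Row57 S := by
  have : ∀ i, ∃ x : S, orderOf x = p i := fun i => by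
    have : Fact (p i).Prime := ⟨hp i⟩
    exact exists_prime_orderOf_dvd_card' (p i) (hd i)
  choose x hx using this
  exact row57_of_three x p hp hinj (fun i => by rw [hx]) (fun i => (hv i).vz (by rw [hx]))

theorem exists_prime_ne {n r : ℕ} (hn : n ≠ 0) (h : ¬ ∃ m, n = r ^ m) :
    ∃ s : ℕ, s.Prime ∧ s ≠ r ∧ s ∣ n := by
  by_contra hcon
  push Not at hcon
  apply h
  refine ⟨n.primeFactorsList.length, ?_⟩
  apply Nat.eq_prime_pow_of_unique_prime_dvd hn
  intro d hd hdn
  by_contra hne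
  exact hcon d hd hne hdn

/-- The rows from a killed prime `t` and a killed prime `r` with an `r`-element `u` whose
centralizer has order prime to `t` and is not an `r`-group. -/
theorem rows_of_good {S : Type*} [Group S] [Finite S] (r t : ℕ) (hr : r.Prime) (ht : t.Prime)
    (hrt : r ≠ t) (hd : t ∣ Nat.card S) (hkr : Kill S r) (hkt : Kill S t) (u y : S) (hu : u ≠ 1)
    (k : ℕ) (huk : u ^ (r ^ k) = 1) (hcent : ∀ z : S, z * u = u * z → z ^ t = 1 → z = 1)
    (hy : y * u = u * y) (hyr : ¬ ∃ m, orderOf y = r ^ m) : Row56 S ∧ Row57 S := by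
  have hru : r ∣ orderOf u := by
    obtain ⟨m, -, hm⟩ := (Nat.dvd_prime_pow hr).1 (orderOf_dvd_of_pow_eq_one huk)
    rcases Nat.eq_zero_or_pos m with h0 | h0
    · rw [h0, pow_zero, orderOf_eq_one_iff] at hm
      exact absurd hm hu
    · rw [hm]
      exact dvd_pow_self r h0.ne'
  refine ⟨row56_of_kill r t hr ht hrt hkr hkt (hru.trans (orderOf_dvd_natCard u)) hd, ?_⟩
  obtain ⟨s, hs, hsr, hsd⟩ := exists_prime_ne (orderOf_pos y).ne' hyr
  -- `y'` of order `s`
  set y' : S := y ^ (orderOf y / s) with hy'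
  have hoy : orderOf y' = s := by
    rw [hy', orderOf_pow_of_dvd]
    · exact Nat.div_div_self hsd (orderOf_pos y).ne'
    · exact (Nat.div_pos (Nat.le_of_dvd (orderOf_pos y) hsd) hs.pos).ne'
    · exact Nat.div_dvd_of_dvd hsd
  have hcy : Commute y' u := Commute.pow_left hy _
  have hst : s ≠ t := by
    intro h
    have h1 := hcent y' hcy (by rw [← h, ← hoy, pow_orderOf_eq_one])
    rw [h1, orderOf_one] at hoy
    exact hs.one_lt.ne hoy
  refine row57_of_kill r t s hr ht hs hrt hsr hst hkr hkt hd (y' * u) ?_ ?_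
  · have hco : (orderOf y').Coprime (orderOf u) := by
      obtain ⟨m, -, hm⟩ := (Nat.dvd_prime_pow hr).1 (orderOf_dvd_of_pow_eq_one huk)
      rw [hoy, hm]
      exact Nat.Coprime.pow_right m ((Nat.coprime_primes hs hr).2 hsr)
    rw [hcy.orderOf_mul_eq_mul_orderOf_of_coprime hco]
    exact hru.mul_left _
  · have hco : (orderOf y').Coprime (orderOf u) := by
      obtain ⟨m, -, hm⟩ := (Nat.dvd_prime_pow hr).1 (orderOf_dvd_of_pow_eq_one huk)
      rw [hoy, hm]
      exact Nat.Coprime.pow_right m ((Nat.coprime_primes hs hr).2 hsr)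
    rw [hcy.orderOf_mul_eq_mul_orderOf_of_coprime hco, hoy]
    exact dvd_mul_right _ _

/-- The data that give the rows of a group of Lie type in characteristic `r`. -/
def LieGood (S : Type*) [Group S] (r : ℕ) : Prop :=
  ∃ (t : ℕ) (u y : S) (k : ℕ), t.Prime ∧ r ≠ t ∧ t ∣ Nat.card S ∧ Kill S t ∧ u ≠ 1 ∧
    u ^ (r ^ k) = 1 ∧ (∀ z : S, z * u = u * z → z ^ t = 1 → z = 1) ∧ y * u = u * y ∧
    ¬ ∃ m, orderOf y = r ^ m

theorem LieGood.rows {S : Type*} [Group S] [Finite S] {r : ℕ} (hr : r.Prime) (h : LieGood S r)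
    (hkr : Kill S r) : Row56 S ∧ Row57 S := by
  obtain ⟨t, u, y, k, ht, hrt, hd, hkt, hu, huk, hcent, hy, hyr⟩ := h
  exact rows_of_good r t hr ht hrt hd hkr hkt u y hu k huk hcent hy hyr

end Cfsg.Agent.H620
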