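import Cfsg.Agent.H620.SporCrit_m3
import Cfsg.Agent.H127.TwFInv
import Cfsg.Agent.KFacts.TwF4.Full
import Cfsg.Agent.H713.Invol
import Cfsg.Agent.S1068
import Cfsg.Agent.FastGrp
import Cfsg.Agent.Prune
set_option linter.all false
prune_inst 0x7f00000000000000000000000000000000000000000000000000000000000000000000000000000000000000000000000000000000000000000000000000000000000000000000000000000000000000003fffffffffffffffffffffffffffbeffbdffffffff
open scoped Cfsg.Agent.FastGrp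

/-!
# The rows of the groups `²F₄(q)` (helper620)
-/

set_option autoImplicit false
set_option linter.unusedSectionVars false

namespace Cfsg.Agent.H620.RowTwF

open Cfsg Cfsg.Lie Cfsg.Agent.H620 Cfsg.Agent.H713 Cfsg.Agent.H620.RowClass Cfsg.Agent.H620.RowSz
open Cfsg.Agent.SplitTwo Cfsg.Agent.SplitTwo.ZS Cfsg.Agent.TitsThree.RankTwoZ Cfsg.Agent.KFacts.TwF4
open Cfsg.Agent.KFacts.TwF4.Arc Cfsg.Agent.KFacts.TwF4.Irr Cfsg.Agent.KFacts.TwF4.Layers
open Cfsg.Agent.KFacts.TwF4.Perf Cfsg.Agent.KFacts.TwF4.Inv Cfsg.Agent.KFacts.TwF4.SylU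
open Cfsg.Agent.H127.TwFInv

/-- `HasDZ` gives a killed prime. -/
theorem kill_of_hasDZ {G : Type*} [Group G] [Finite G] {p : ℕ} [hp : Fact p.Prime]
    (h : Cfsg.Agent.H665.NoPQ.HasDZ p G) : Kill G p := by
  obtain ⟨χ, hχ⟩ := h
  exact kill_of_dz p χ hχ

universe u

section
variable {F : Type*} [Field F] {σ : F →+* F} {G : Type u} [Group G] (S : Full σ G) [Finite F] [Finite G]

theorem not_conj (hR : S.R.p = 2) (hq2 : 2 ∣ Nat.card F) : ¬ IsConj (S.e 2 0 1) (S.o 2 1) := by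
  intro h
  have hz1 : S.e 2 0 (1 : F) ≠ 1 := fun h => one_ne_zero (S.e_eq_one h).2
  have e1 := S.centralizer_z (z := S.e 2 0 (1 : F)) ⟨1, rfl⟩ hz1
  have e2 := S.centralizer_o (one_ne_zero (α := F))
  obtain ⟨c, hc⟩ := isConj_iff.1 h
  have hcard : Nat.card S.PL = Nat.card S.HO := by
    rw [← e1, ← e2]
    refine Nat.card_congr ⟨fun x => ⟨c * x * c⁻¹, ?_⟩, fun x => ⟨c⁻¹ * x * c, ?_⟩, ?_, ?_⟩
    · have hx := Subgroup.mem_centralizer_singleton_iff.1 x.2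
      rw [Subgroup.mem_centralizer_singleton_iff, ← hc]
      calc c * x * c⁻¹ * (c * S.e 2 0 1 * c⁻¹) = c * (x * S.e 2 0 1) * c⁻¹ := by group
        _ = c * (S.e 2 0 1 * x) * c⁻¹ := by rw [hx]
        _ = _ := by group
    · have hx := Subgroup.mem_centralizer_singleton_iff.1 x.2
      rw [Subgroup.mem_centralizer_singleton_iff]
      have e3 : S.e 2 0 1 = c⁻¹ * S.o 2 1 * c := by rw [← hc]; group
      rw [e3]
      calc c⁻¹ * x * c * (c⁻¹ * S.o 2 1 * c) = c⁻¹ * (x * S.o 2 1) * c := by group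
        _ = c⁻¹ * (S.o 2 1 * x) * c := by rw [hx]
        _ = _ := by group
    · intro x
      apply Subtype.ext
      show c⁻¹ * (c * x * c⁻¹) * c = x
      group
    · intro x
      apply Subtype.ext
      show c * (c⁻¹ * x * c) * c⁻¹ = x
      group
  have hF2 : 2 ≤ Nat.card F := Finite.one_lt_card
  obtain ⟨l, hl, hld⟩ := Nat.exists_prime_and_dvd (n := 1 + Nat.card F * Nat.card F) (by nlinarith)
  have hl2 : l ≠ 2 := by
    rintro rfl
    have : 2 ∣ Nat.card F * Nat.card F := hq2.mul_right _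
    omega
  have h3 : l ∣ Nat.card S.HO := by
    rw [← hcard, card_PL S]
    exact hld.mul_left _
  rw [card_HO S] at h3
  have hpos : 1 ≤ Nat.card F := by omega
  have h4 : l ∣ Nat.card F * Nat.card F - 1 := by
    have h6 : Nat.card F * Nat.card F - 1 = (Nat.card F - 1) * (1 + Nat.card F) := by
      obtain ⟨d, hd⟩ : ∃ d, Nat.card F = d + 1 := ⟨Nat.card F - 1, by omega⟩
      rw [hd, Nat.add_sub_cancel]
      have : (d + 1) * (d + 1) = d * (1 + (d + 1)) + 1 := by ring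
      omega
    rw [h6]
    rcases hl.dvd_mul.1 h3 with h4 | h4
    · exact (prime_BT S hR hl hl2 (h4.trans (Subgroup.card_dvd_of_le inf_le_right))).mul_right _
    · exact h4.mul_left _
  have h5 : l ∣ 2 := by
    have h6 := Nat.dvd_sub hld h4
    have h7 : 1 + Nat.card F * Nat.card F - (Nat.card F * Nat.card F - 1) = 2 := by
      have : 1 ≤ Nat.card F * Nat.card F := by nlinarith
      omega
    rwa [h7] at h6
  exact hl2 ((Nat.prime_dvd_prime_iff_eq hl Nat.prime_two).1 h5)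

theorem hasDZ_full (hR : S.R.p = 2) (hF : ∃ c : Fˣ, c ≠ 1) (hq2 : 2 ∣ Nat.card F) {l : ℕ} [hl : Fact l.Prime]
    (hl2 : l ≠ 2) (h1 : ¬ l ∣ Nat.card F - 1) (h2 : ¬ l ∣ 1 + Nat.card F)
    (h3 : ¬ l ∣ 1 + Nat.card F * Nat.card F) : Cfsg.Agent.H665.NoPQ.HasDZ l G := by
  have hz1 : S.e 2 0 (1 : F) ≠ 1 := fun h => one_ne_zero (S.e_eq_one h).2
  have ho1 : S.o 2 (1 : F) ≠ 1 := fun h => one_ne_zero (S.o_eq_one h)
  have : Fact (Nat.Prime 2) := ⟨Nat.prime_two⟩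
  refine hasDZ_of_two_classes (s := S.e 2 0 1) (t := S.o 2 1) ?_ ?_ ?_ (not_conj S hR hq2)
  · intro u hu hd
    obtain ⟨hu1, hu2⟩ := orderOf_two hu
    obtain ⟨⟨b, hb⟩, hbl⟩ := exists_prime_orderOf_dvd_card' l hd
    rw [Subgroup.orderOf_mk] at hbl
    rcases prime_of_commute S hF hR hu1 hu2 hl.out hl2 hbl (Subgroup.mem_centralizer_singleton_iff.1 hb) with h | h | h
    · exact h1 h
    · exact h2 h
    · exact h3 h
  · refine orderOf_eq_prime ?_ hz1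
    rw [pow_two, S.e_mul, add_zero, zero_mul, add_zero, char2 S, S.e_zero]
  · refine orderOf_eq_prime ?_ ho1
    rw [pow_two, o_sq]

end

/-- Two primes dividing `q⁴ - q² + 1`. -/
theorem exists_two_primes {m : ℕ} (hm : 1 ≤ m) {q : ℕ} (hq : q = 2 ^ (2 * m + 1)) :
    ∃ l k : ℕ, l.Prime ∧ k.Prime ∧ l ≠ k ∧ l ≠ 2 ∧ k ≠ 2 ∧
    l ∣ q ^ 4 - q ^ 2 + 1 ∧ k ∣ q ^ 4 - q ^ 2 + 1 := by
  set r := 2 ^ m with hr
  have hr2 : 2 ≤ r := by
    calc 2 = 2 ^ 1 := rfl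
      _ ≤ r := Nat.pow_le_pow_right (by norm_num) hm
  have hq : q = 2 * r ^ 2 := by rw [hq, hr]; ring
  have h2r : 2 * r < q := by rw [hq]; nlinarith
  have hle : 2 * r * (q + 1) ≤ q * (q + 1) := Nat.mul_le_mul_right _ h2r.le
  have hle2 : q ^ 2 ≤ q ^ 4 := Nat.pow_le_pow_right (by omega) (by norm_num)
  set A := q * (q + 1) + 1 + 2 * r * (q + 1) with hA
  set B := q * (q + 1) - 2 * r * (q + 1) + 1 with hB
  have e1 : q ^ 4 - q ^ 2 + 1 = A * B := by
    rw [hA, hB]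
    zify [hle2, hle]
    have : (q : ℤ) = 2 * r ^ 2 := by rw [hq]; push_cast; ring
    rw [this]
    ring
  have hB1 : 1 < B := by
    have : 2 * r * (q + 1) < q * (q + 1) := Nat.mul_lt_mul_of_pos_right h2r (by omega)
    omega
  have hA1 : A ≠ 1 := by
    have : 0 < q * (q + 1) := Nat.mul_pos (by omega) (by omega)
    omega
  have hq2 : 2 ∣ q := ⟨r ^ 2, hq⟩
  have hqe : 2 ∣ q * (q + 1) := hq2.mul_right _
  have hre : 2 ∣ 2 * r * (q + 1) := ⟨r * (q + 1), by ring⟩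
  obtain ⟨l, hl, hld⟩ := Nat.exists_prime_and_dvd (n := A) hA1
  obtain ⟨k, hk, hkd⟩ := Nat.exists_prime_and_dvd (n := B) (by omega)
  have hl2 : l ≠ 2 := by
    rintro rfl
    omega
  have hk2 : k ≠ 2 := by
    rintro rfl
    omega
  refine ⟨l, k, hl, hk, ?_, hl2, hk2, e1 ▸ hld.mul_right _, e1 ▸ hkd.mul_left _⟩
  rintro rfl
  have h1 : l ∣ 4 * r * (q + 1) := by
    have h2 := Nat.dvd_sub hld hkd
    have h3 : A - B = 4 * r * (q + 1) := by
      have : 4 * r * (q + 1) = 2 * (2 * r * (q + 1)) := by ring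
      omega
    rwa [h3] at h2
  rcases hl.dvd_mul.1 h1 with h2 | h2
  · have h3 : l ∣ 2 ^ (2 + m) := by
      rw [pow_add, ← hr]
      exact h2
    exact hl2 ((Nat.prime_dvd_prime_iff_eq hl Nat.prime_two).1 (hl.dvd_of_dvd_pow h3))
  · have h3 : A = q * (q + 1) + 2 * r * (q + 1) + 1 := by omega
    rw [h3] at hld
    have h4 : l ∣ q * (q + 1) + 2 * r * (q + 1) := dvd_add (h2.mul_left _) (h2.mul_left _)
    have h5 := (Nat.dvd_add_right h4).1 hld
    exact hl.one_lt.ne' (Nat.dvd_one.1 h5)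

theorem kill_twF {F : Type} [Field F] [Fintype F] {m : ℕ} (hm : 1 ≤ m) (hK : Fintype.card F = 2 ^ (2 * m + 1))
    {l : ℕ} (hl : l.Prime) (hl2 : l ≠ 2)
    (hd : l ∣ (2 ^ (2 * m + 1)) ^ 4 - (2 ^ (2 * m + 1)) ^ 2 + 1) :
    Kill ↥(twistedF4 F (2 ^ m)) l ∧ l ∣ Nat.card ↥(twistedF4 F (2 ^ m)) := by
  have : Fact l.Prime := ⟨hl⟩
  obtain ⟨φ, hφ⟩ := Cfsg.Agent.ChevalleyStructure.TwF4.TwistedFix.exists_rln hK
  have := Cfsg.Agent.ChevalleyStructure.TwF4.Twisted.charP_two hK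
  have hfin : Finite ↥(twistedF4 F (2 ^ m)) := inferInstance
  have hF : ∃ c : Fˣ, c ≠ 1 := by
    have h1 : 1 < Nat.card Fˣ := by
      rw [Nat.card_units, Nat.card_eq_fintype_card, hK]
      have : 2 ^ 3 ≤ 2 ^ (2 * m + 1) := Nat.pow_le_pow_right (by norm_num) (by omega)
      omega
    have h2 : Nontrivial Fˣ := Finite.one_lt_card_iff_nontrivial.1 h1
    exact exists_ne 1
  obtain ⟨S, hS⟩ : ∃ S : Full φ ↥(twistedF4 F (2 ^ m)), S.R.p = 2 :=
    ⟨Cfsg.Agent.KFacts.TwF4.Inst.full hK hφ, rfl⟩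
  have hcF : Nat.card F = 2 ^ (2 * m + 1) := by rw [Nat.card_eq_fintype_card, hK]
  have h2q : 2 ∣ 2 ^ (2 * m + 1) := dvd_pow_self 2 (by omega)
  have hq3 : (2 ^ (2 * m + 1)) % 3 = 2 := by
    have : (2 : ℕ) ^ (2 * m + 1) = 4 ^ m * 2 := by rw [pow_succ, pow_mul]; norm_num
    rw [this, Nat.mul_mod, Nat.pow_mod]
    norm_num
  have hcard := Cfsg.Agent.S1068.result hK
  have hkey : ∀ q : ℕ, q = 2 ^ (2 * m + 1) → ¬ l ∣ q - 1 ∧ ¬ l ∣ 1 + q ∧ ¬ l ∣ 1 + q * q ∧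
      l ∣ q ^ 6 + 1 := by
    intro q hqq
    rw [← hqq] at hd hq3
    have hq1 : 1 ≤ q := by
      rw [hqq]
      exact Nat.one_le_two_pow
    have hle2 : q ^ 2 ≤ q ^ 4 := Nat.pow_le_pow_right hq1 (by norm_num)
    have hz : ((l : ℕ) : ℤ) ∣ (q : ℤ) ^ 4 - q ^ 2 + 1 := by
      have := Int.natCast_dvd_natCast.2 hd
      push_cast [hle2] at this
      exact this
    have hone : ¬ ((l : ℕ) : ℤ) ∣ 1 := by
      intro h
      have := Int.natCast_dvd_natCast.1 (by simpa using h : ((l : ℕ) : ℤ) ∣ ((1 : ℕ) : ℤ))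
      exact hl.one_lt.ne' (Nat.dvd_one.1 this)
    refine ⟨fun h => hone ?_, fun h => hone ?_, fun h => ?_, ?_⟩
    · have h1 : ((l : ℕ) : ℤ) ∣ (q : ℤ) - 1 := by
        have := Int.natCast_dvd_natCast.2 h
        push_cast [hq1] at this
        exact this
      have e : (1 : ℤ) = ((q : ℤ) ^ 4 - q ^ 2 + 1) - (q - 1) * (q ^ 2 * (q + 1)) := by ring
      rw [e]
      exact dvd_sub hz (h1.mul_right _)
    · have h1 : ((l : ℕ) : ℤ) ∣ 1 + (q : ℤ) := by
        have := Int.natCast_dvd_natCast.2 h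
        push_cast at this
        exact this
      have e : (1 : ℤ) = ((q : ℤ) ^ 4 - q ^ 2 + 1) - (1 + q) * (q ^ 2 * (q - 1)) := by ring
      rw [e]
      exact dvd_sub hz (h1.mul_right _)
    · have h1 : ((l : ℕ) : ℤ) ∣ 1 + (q : ℤ) * q := by
        have := Int.natCast_dvd_natCast.2 h
        push_cast at this
        exact this
      have h3 : ((l : ℕ) : ℤ) ∣ ((3 : ℕ) : ℤ) := by
        have e : ((3 : ℕ) : ℤ) = ((q : ℤ) ^ 4 - q ^ 2 + 1) - (1 + q * q) * (q ^ 2 - 2) := by push_cast; ring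
        rw [e]
        exact dvd_sub hz (h1.mul_right _)
      have h4 := Int.natCast_dvd_natCast.1 h3
      have h5 : l = 3 := (Nat.prime_dvd_prime_iff_eq hl Nat.prime_three).1 h4
      subst h5
      have h6 : (1 + q * q) % 3 = 2 := by rw [Nat.add_mod, Nat.mul_mod, hq3]
      omega
    · have e : q ^ 6 + 1 = (q ^ 4 - q ^ 2 + 1) * (q ^ 2 + 1) := by
        zify [hle2]
        ring
      rw [e]
      exact hd.mul_right _
  refine ⟨kill_of_hasDZ (hasDZ_full S hS hF (by rw [hcF]; exact h2q) hl2 ?_ ?_ ?_), ?_⟩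
  · exact (hkey _ hcF).1
  · exact (hkey _ hcF).2.1
  · exact (hkey _ hcF).2.2.1
  · have h := (hkey _ rfl).2.2.2
    rw [hcard]
    simp only [hl.dvd_mul]
    tauto

theorem kill3_twF {K : Type*} [Group K] [Finite K] (h : Cfsg.Lie.Iso2F4 K) : Kill3 K 2 := by
  obtain ⟨F, i1, i2, m, hm, hF, ⟨e⟩⟩ := h
  obtain ⟨l, k, hl, hk, hlk, hl2, hk2, hld, hkd⟩ := exists_two_primes hm rfl
  have h1 := kill_twF hm hF hl hl2 hld
  have h2 := kill_twF hm hF hk hk2 hkd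
  exact Kill3.mulEquiv ⟨l, k, hl, hk, hlk, hl2, hk2, h1.2, h2.2, h1.1, h2.1⟩ e.symm

theorem rows_twF {K : Type*} [Group K] [Finite K] [IsSimpleGroup K] (h : Cfsg.Lie.Iso2F4 K) : Rows K := by
  have hL : IsLieTypeChar 2 K := by
    unfold IsLieTypeChar
    tauto
  refine Kill3.rows Nat.prime_two ?_ (kill_of_lie Nat.prime_two hL) (kill3_twF h)
  obtain ⟨F, i1, i2, m, hm, hF, ⟨e⟩⟩ := h
  rw [Nat.card_congr e.toEquiv, Cfsg.Agent.S1068.result hF]
  simp only [Nat.prime_two.dvd_mul]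
  have : 2 ∣ (2 ^ (2 * m + 1)) ^ 12 := dvd_pow (dvd_pow_self 2 (by omega)) (by norm_num)
  tauto

end Cfsg.Agent.H620.RowTwF
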