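import Cfsg.Agent.H695.Spor.RowA
import Cfsg.Agent.H710.Spor.Good
import Cfsg.Agent.UGT.A7.Mu_m3
import Cfsg.Agent.KFacts.He.TwoA_m3
import Cfsg.Agent.ONType.PslCard
import Cfsg.Agent.OddOrderLocal.HallPi
import Cfsg.Agent.S0205
import Cfsg.Agent.H710.VanCount
import Cfsg.Agent.TypeM.FactsAut
import Cfsg.Agent.FastGrp
import Cfsg.Agent.Prune
set_option linter.all false
prune_inst 0x7f00000000000000000000000000000000000000000000000000000000000000000000000000000000000000000000000000000000000000000000000000000000000000000000000000000000000000003fffffffffffffffffffffffffffbeffbdffffffff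
open scoped Cfsg.Agent.FastGrp

-- part: H620/RowHe
section
/-!
# The rows of the Held group (helper620)

17 does not divide the orders of the centralizers of the two classes of involutions.
-/

set_option autoImplicit false

namespace Cfsg.Agent.H620.RowHe

open Cfsg Cfsg.Agent.H620 Cfsg.Agent.H713 Cfsg.Agent.H620.RowClass Cfsg.Agent.H620.SporCrit
open Cfsg.Agent.H665.NoPQ Cfsg.Agent.H620.RowSporA Subgroup
open Cfsg.Spor Cfsg.Spor.He Cfsg.Agent.SporadicB.HePerm Cfsg.Agent.KFacts.He Cfsg.Agent.KFacts.He.Lv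
open Cfsg.Agent.KFacts.He.TwoACent Cfsg.Agent.KFacts.He.TwoAPlane Cfsg.Agent.ONType.Psl
open Cfsg.Agent.KFacts.He.Words Cfsg.Agent.KFacts.He.Bound Cfsg.Agent.ONType.PslCard

instance fact_17 : Fact (Nat.Prime 17) := ⟨by norm_num⟩

theorem cent_a : ¬ 17 ∣ Nat.card (centralizer ({gn .a} : Set Cfsg.Spor.He)) := by
  intro h
  have hfin : Finite Cfsg.Spor.He := Nat.finite_of_card_ne_zero (by rw [Classes.card_he]; norm_num)
  obtain ⟨⟨x, hx⟩, hx17⟩ := exists_prime_orderOf_dvd_card' 17 h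
  rw [Subgroup.orderOf_mk] at hx17
  have hxa : x * gn .a = gn .a * x := mem_centralizer_singleton_iff.1 hx
  have hx2 : x ^ 2 ∈ L := by
    rcases two hxa hxa with h1 | h1 | h1
    · exact L.pow_mem h1 2
    · exact L.pow_mem h1 2
    · rwa [pow_two]
  have hxL : x ∈ L := by
    have h1 : x = (x ^ 2) ^ 9 := by
      rw [← pow_mul]
      have h2 : x ^ 17 = 1 := by rw [← hx17]; exact pow_orderOf_eq_one x
      calc x = x ^ 17 * x := by rw [h2, one_mul]
        _ = x ^ (2 * 9) := by rw [← pow_succ]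
    rw [h1]
    exact L.pow_mem hx2 9
  have h1 : orderOf (⟨x, hxL⟩ : ↥L) = 17 := by rw [Subgroup.orderOf_mk, hx17]
  have h2 : orderOf (Th ⟨x, hxL⟩) ∣ 17 := by
    rw [← h1]
    exact orderOf_map_dvd Th _
  rcases (Nat.dvd_prime (by norm_num : Nat.Prime 17)).1 h2 with h3 | h3
  · rw [orderOf_eq_one_iff] at h3
    have h4 : (⟨x, hxL⟩ : ↥L) ∈ Th.ker := h3
    rw [ker_Th, mem_subgroupOf] at h4
    have h5 : orderOf (⟨x, h4⟩ : V) ∣ Nat.card V := orderOf_dvd_natCard _
    rw [Subgroup.orderOf_mk, hx17, card_V] at h5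
    norm_num at h5
  · have h5 : orderOf (Th ⟨x, hxL⟩) ∣ Nat.card PSL3 := orderOf_dvd_natCard _
    rw [h3, card_PSL3] at h5
    norm_num at h5

theorem hasDZ_17 : HasDZ 17 Cfsg.Spor.He := by
  have hfin : Finite Cfsg.Spor.He := Nat.finite_of_card_ne_zero (by rw [Classes.card_he]; norm_num)
  have hz : orderOf z = 2 := by
    obtain ⟨g, hg⟩ := Classes.z_d
    refine orderOf_eq_prime ?_ Hyp.z_ne_one
    have h1 : (g * z * g⁻¹) * (g * z * g⁻¹) = 1 := by rw [hg]; exact gn_mul_self .d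
    rw [pow_two]
    calc z * z = g⁻¹ * ((g * z * g⁻¹) * (g * z * g⁻¹)) * g := by group
      _ = 1 := by rw [h1]; group
  have ha : orderOf (gn .a) = 2 := orderOf_eq_prime (by rw [pow_two]; exact gn_mul_self _) a_ne_one
  refine hasDZ_of_two_classes ?_ hz ha ?_
  · intro u hu
    obtain ⟨h1, h2⟩ := orderOf_two hu
    rcases Classes.two_classes_a h1 h2 with ⟨g, hg⟩ | ⟨g, hg⟩
    · have h3 : IsConj z u := isConj_iff.2 ⟨g, hg⟩
      rw [Cfsg.Agent.Blocks.SylowIn.card_centralizer_of_isConj h3, Classes.card_centralizer]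
      norm_num
    · have h3 : IsConj (gn .a) u := isConj_iff.2 ⟨g, hg⟩
      rw [Cfsg.Agent.Blocks.SylowIn.card_centralizer_of_isConj h3]
      exact cent_a
  · intro h
    obtain ⟨g, hg⟩ := isConj_iff.1 h.symm
    exact RecOut.a_not_z g hg

theorem rows_he {K : Type*} [Group K] (h : Spor.IsoHe K) : Rows K := by
  have hfin : Finite Cfsg.Spor.He := Nat.finite_of_card_ne_zero (by rw [Classes.card_he]; norm_num)
  obtain ⟨x, hx, ho⟩ := Cfsg.Agent.H710.Spor.Good.exists_vz_he (K := Cfsg.Spor.He) ⟨MulEquiv.refl _⟩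
  obtain ⟨e⟩ := h
  exact Rows.mulEquiv (rows_of_prime_mul (p := 17) (q := 2) (r := 3) (n := 12) (by norm_num) (by norm_num)
    (by norm_num) (by norm_num) (by norm_num) (by norm_num)
    (vord_of_dz hasDZ_17 (by rw [Classes.card_he]; norm_num)) ⟨x, hx, ho⟩
    (by norm_num) (by norm_num) (by norm_num)) e.symm

end Cfsg.Agent.H620.RowHe
end

-- part: H620/HallPair
section
/-!
# Elements of order `p q` in groups of odd order (helper620)
-/

set_option autoImplicit false

namespace Cfsg.Agent.H620.HallPair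

open Cfsg Subgroup Cfsg.Agent.H713

/-- In a solvable group in which the Sylow `p`-subgroups have order `p` and no power of `q` dividing the
order is congruent to 1 modulo `p`, and `q` is prime to `p - 1`, some element has order `p * q`. -/
theorem exists_orderOf {G : Type*} [Group G] [Finite G] (hs : Group.IsSolvable G) {p q : ℕ}
    [hp : Fact p.Prime] [hq : Fact q.Prime] (hpG : p ∣ Nat.card G) (hqG : q ∣ Nat.card G)
    (hsq : ¬ p * p ∣ Nat.card G) (hmod : ∀ a : ℕ, q ^ a ∣ Nat.card G → q ^ a ≡ 1 [MOD p] → a = 0)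
    (hunit : ∀ c : ZMod p, c ^ q = 1 → c = 1) :
    ∃ x y : G, orderOf x = p ∧ orderOf y = q ∧ x * y = y * x := by
  obtain ⟨K, hK, hKi, -⟩ := Cfsg.Agent.OddOrderLocal.HallPi.exists_hall_ge_top (G := G) ({p, q} : Set ℕ)
    (X := ⊥) (by
      intro r hr hd
      rw [Subgroup.card_bot] at hd
      exact absurd (Nat.dvd_one.1 hd) hr.one_lt.ne')
  have hKd : Nat.card K ∣ Nat.card G := K.card_subgroup_dvd_card
  have hKp : p ∣ Nat.card K := by
    rw [← K.card_mul_index] at hpG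
    exact (hp.out.dvd_mul.1 hpG).resolve_right (hKi p hp.out (by left; rfl))
  have hKq : q ∣ Nat.card K := by
    rw [← K.card_mul_index] at hqG
    exact (hq.out.dvd_mul.1 hqG).resolve_right (hKi q hq.out (by right; rfl))
  let P : Sylow p K := default
  have hP : Nat.card P = p := by
    rw [P.card_eq_multiplicity]
    have h1 : (Nat.card K).factorization p = 1 := factorization_eq_one hKp fun h => hsq (h.trans hKd)
    rw [h1, pow_one]
  have hidx : ∃ a : ℕ, (P : Subgroup K).index = q ^ a := by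
    have h0 : (P : Subgroup K).index ≠ 0 := Subgroup.index_ne_zero_of_finite
    refine ⟨_, Nat.eq_prime_pow_of_unique_prime_dvd h0 fun {r} hr hd => ?_⟩
    have h1 : r ∣ Nat.card K := hd.trans ((P : Subgroup K).index_dvd_card)
    rcases hK r hr h1 with h2 | h2
    · exfalso
      have h3 : r = p := h2
      rw [h3] at hd
      exact P.not_dvd_index hd
    · exact h2
  obtain ⟨a, ha⟩ := hidx
  have hn : Nat.card (Sylow p K) = 1 := by
    have h1 : Nat.card (Sylow p K) ∣ q ^ a := ha ▸ Sylow.card_dvd_index P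
    have h2 : Nat.card (Sylow p K) ≡ 1 [MOD p] := card_sylow_modEq_one p K
    obtain ⟨b, hb, hb2⟩ := (Nat.dvd_prime_pow hq.out).1 h1
    rw [hb2] at h2 ⊢
    have h3 : q ^ b ∣ Nat.card G := (pow_dvd_pow q hb).trans
      ((ha ▸ ((P : Subgroup K).index_dvd_card) : q ^ a ∣ Nat.card K).trans hKd)
    rw [hmod b h3 h2, pow_zero]
  have hsub : Subsingleton (Sylow p K) := (Nat.card_eq_one_iff_unique.1 hn).1
  have hPn : (P : Subgroup K).Normal := Sylow.normal_of_subsingleton P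
  obtain ⟨x, hx⟩ := exists_prime_orderOf_dvd_card' (G := P) p (by rw [hP])
  obtain ⟨y, hy⟩ := exists_prime_orderOf_dvd_card' (G := K) q hKq
  have hxo : orderOf (x : K) = p := by rw [Subgroup.orderOf_coe]; exact hx
  have hgen : ∀ z : K, z ∈ (P : Subgroup K) → ∃ i : ℕ, (x : K) ^ i = z := by
    intro z hz
    have h1 : zpowers x = ⊤ := by
      apply Subgroup.eq_top_of_card_eq
      rw [Nat.card_zpowers, hx, hP]
    have h2 : (⟨z, hz⟩ : P) ∈ zpowers x := by rw [h1]; exact mem_top _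
    obtain ⟨i, hi⟩ := (mem_powers_iff_mem_zpowers (x := x) (y := ⟨z, hz⟩)).2 h2
    exact ⟨i, congrArg Subtype.val hi⟩
  obtain ⟨i, hi⟩ := hgen (y * x * y⁻¹) (hPn.conj_mem _ x.2 y)
  have hpow : ∀ k : ℕ, y ^ k * (x : K) * (y ^ k)⁻¹ = (x : K) ^ (i ^ k) := by
    intro k
    induction k with
    | zero => simp
    | succ k ih =>
      have h1 : y ^ (k + 1) * (x : K) * (y ^ (k + 1))⁻¹ = y * (y ^ k * (x : K) * (y ^ k)⁻¹) * y⁻¹ := by
        rw [pow_succ']
        group
      rw [h1, ih, ← conj_pow, ← hi, ← pow_mul, pow_succ']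
  have h4 := hpow q
  rw [← hy, pow_orderOf_eq_one] at h4
  simp only [one_mul, inv_one, mul_one] at h4
  rw [hy] at h4
  have h5 : (i ^ q : ℕ) ≡ 1 [MOD p] := by
    rw [← hxo]
    refine (pow_eq_pow_iff_modEq (x := (x : K))).1 ?_
    rw [pow_one]
    exact h4.symm
  have h6 : i ≡ 1 [MOD p] := by
    have h8 : ((i ^ q : ℕ) : ZMod p) = ((1 : ℕ) : ZMod p) := (ZMod.natCast_eq_natCast_iff _ _ _).2 h5
    push_cast at h8
    have h9 := hunit _ h8
    refine (ZMod.natCast_eq_natCast_iff _ _ _).1 ?_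
    push_cast
    exact h9
  have h7 : (x : K) ^ i = (x : K) ^ 1 := by
    rw [pow_eq_pow_iff_modEq, hxo]
    exact h6
  rw [h7, pow_one] at hi
  have h9 : y * (x : K) = (x : K) * y := mul_inv_eq_iff_eq_mul.1 hi.symm
  refine ⟨((x : K) : G), (y : G), by rw [Subgroup.orderOf_coe]; exact hxo,
    by rw [Subgroup.orderOf_coe]; exact hy, ?_⟩
  exact (congrArg (fun z : K => (z : G)) h9).symm

end Cfsg.Agent.H620.HallPair
end

-- part: H620/RowLy
section
/-!
# The rows of the Lyons group (helper620)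

`HasDZ 67`: otherwise `35` divides the order of a subgroup of odd order of `2.A11`.
-/

set_option autoImplicit false

namespace Cfsg.Agent.H620.RowLy

open Cfsg Cfsg.Agent.H620 Cfsg.Agent.H713 Cfsg.Agent.H620.RowClass Cfsg.Agent.H620.SporCrit
open Cfsg.Agent.H665.NoPQ Cfsg.Agent.H620.RowSporA Subgroup Cfsg.Agent.TypeM.Two
open Cfsg.Agent.SporRec.TwoAn

instance fact_67 : Fact (Nat.Prime 67) := ⟨by norm_num⟩

theorem dvd35 {c : ℕ} (h : c ∣ 35) : c = 1 ∨ c = 5 ∨ c = 7 ∨ c = 35 := by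
  have h1 : c ∈ Nat.divisors 35 := Nat.mem_divisors.2 ⟨h, by norm_num⟩
  have h2 : Nat.divisors 35 = {1, 5, 7, 35} := by decide +kernel
  rw [h2] at h1
  simpa using h1

theorem no35_perm (σ : Equiv.Perm (Fin 11)) (h : orderOf σ = 35) : False := by
  have hs : σ.cycleType.sum ≤ 11 := by
    rw [Equiv.Perm.sum_cycleType]
    exact (Finset.card_le_univ _).trans (by simp)
  have hd : ∀ c ∈ σ.cycleType, c ∣ 35 := fun c hc => h ▸ Equiv.Perm.dvd_of_mem_cycleType hc
  have hle : ∀ c ∈ σ.cycleType, c ≤ 11 := fun c hc => (Multiset.le_sum_of_mem hc).trans hs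
  have key : ∀ q : ℕ, q ≠ 35 → ¬ 35 ∣ q → ∃ c ∈ σ.cycleType, ¬ c ∣ q := by
    intro q _ hq
    by_contra hcon
    push Not at hcon
    apply hq
    rw [← h, ← Equiv.Perm.lcm_cycleType]
    exact Multiset.lcm_dvd.2 hcon
  obtain ⟨c, hc, hc5⟩ := key 5 (by norm_num) (by norm_num)
  obtain ⟨d, hd', hd7⟩ := key 7 (by norm_num) (by norm_num)
  have h1 : c = 7 := by
    rcases dvd35 (hd c hc) with rfl | rfl | rfl | rfl
    · exact absurd (one_dvd 5) hc5
    · exact absurd dvd_rfl hc5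
    · rfl
    · exact absurd (hle _ hc) (by norm_num)
  have h2 : d = 5 := by
    rcases dvd35 (hd d hd') with rfl | rfl | rfl | rfl
    · exact absurd (one_dvd 7) hd7
    · rfl
    · exact absurd dvd_rfl hd7
    · exact absurd (hle _ hd') (by norm_num)
  subst h1 h2
  obtain ⟨s, hs'⟩ := Multiset.exists_cons_of_mem hc
  rw [hs'] at hd' hs
  rw [Multiset.mem_cons] at hd'
  rcases hd' with h3 | h3
  · norm_num at h3
  · rw [Multiset.sum_cons] at hs
    have := Multiset.le_sum_of_mem h3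
    omega

/-- No commuting elements of orders 7 and 5 commute with an involution. -/
theorem no35 {G : Type*} [Group G] (L : MT 11 G) {t u v : G} (ht : orderOf t = 2)
    (hu : orderOf u = 7) (hv : orderOf v = 5) (huv : u * v = v * u) (hut : u * t = t * u)
    (hvt : v * t = t * v) : False := by
  obtain ⟨h1, h2⟩ := orderOf_two ht
  obtain ⟨g, hg⟩ := L.one t h1 h2
  have hmem : ∀ w : G, w * t = t * w → g⁻¹ * w * g ∈ centralizer ({L.t} : Set G) := by
    intro w hw
    rw [mem_centralizer_singleton_iff]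
    calc g⁻¹ * w * g * L.t = g⁻¹ * (w * (g * L.t * g⁻¹)) * g := by group
      _ = g⁻¹ * ((g * L.t * g⁻¹) * w) * g := by rw [hg, hw]
      _ = L.t * (g⁻¹ * w * g) := by group
  have hc : g⁻¹ * u * g * (g⁻¹ * v * g) = g⁻¹ * v * g * (g⁻¹ * u * g) := by
    calc g⁻¹ * u * g * (g⁻¹ * v * g) = g⁻¹ * (u * v) * g := by group
      _ = g⁻¹ * (v * u) * g := by rw [huv]
      _ = g⁻¹ * v * g * (g⁻¹ * u * g) := by group
  have hord : ∀ w : G, orderOf (g⁻¹ * w * g) = orderOf w := by
    intro w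
    have := MulEquiv.orderOf_eq (MulAut.conj g⁻¹) w
    simpa using this
  set U : centralizer ({L.t} : Set G) := ⟨g⁻¹ * u * g, hmem u hut⟩ with hU
  set V : centralizer ({L.t} : Set G) := ⟨g⁻¹ * v * g, hmem v hvt⟩ with hV
  have hUV : Commute U V := Subtype.ext hc
  have oU : orderOf U = 7 := by rw [hU, Subgroup.orderOf_mk, hord, hu]
  have oV : orderOf V = 5 := by rw [hV, Subgroup.orderOf_mk, hord, hv]
  have o35 : orderOf (U * V) = 35 := by
    rw [hUV.orderOf_mul_eq_mul_orderOf_of_coprime (by rw [oU, oV]; norm_num), oU, oV]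
  apply no35_perm (L.K.π (U * V))
  have h3 : orderOf (L.K.π (U * V)) ∣ 35 := o35 ▸ orderOf_map_dvd L.K.π (U * V)
  have h4 : (U * V) ^ (orderOf (L.K.π (U * V)) * 2) = 1 := by
    rw [pow_mul, pow_two]
    have h5 : L.K.π ((U * V) ^ orderOf (L.K.π (U * V))) = 1 := by
      rw [map_pow, pow_orderOf_eq_one]
    rcases (L.K.ker _).1 h5 with h6 | h6
    · rw [h6, one_mul]
    · rw [h6, L.K.z_mul_z]
  have h5 : 35 ∣ orderOf (L.K.π (U * V)) * 2 := by
    rw [← o35]
    exact orderOf_dvd_of_pow_eq_one h4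
  exact Nat.dvd_antisymm h3 ((Nat.Coprime.dvd_mul_right (by norm_num)).1 h5)

theorem mem_div {n b : ℕ} (hn : n ≠ 0) (hb : b ∣ n) (L : List ℕ) (hL : ∀ c < n + 1, c ∣ n → c ∈ L) : b ∈ L :=
  hL b (Nat.lt_succ_of_le (Nat.le_of_dvd (Nat.pos_of_ne_zero hn) hb)) hb

theorem arith (e a b : ℕ) (he : e ∣ 67 - 1) (he2 : Even e) (hb : b ∣ 39916800) (hb2 : Odd b)
    (h1 : (e * (a * b)) % 67 = 51765179004000000 / 67 % 67)
    (h2 : (a * 39916800) % 67 = 51765179004000000 / 67 % 67) : 35 ∣ b := by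
  norm_num at h1 h2 he
  have hb' : b ∣ 155925 := by
    have h3 : Nat.Coprime b (2 ^ 8) := Nat.Coprime.pow_right 8 (Nat.coprime_two_right.2 hb2)
    exact h3.dvd_of_dvd_mul_left (by norm_num; exact hb)
  obtain ⟨b1, b2, hb1, hb3, rfl⟩ : ∃ b1 b2, b1 ∣ 81 ∧ b2 ∣ 1925 ∧ b1 * b2 = b := by
    obtain ⟨b1, b2, h3, h4, h5⟩ := (Nat.dvd_mul (m := 81) (n := 1925)).1 (by norm_num; exact hb')
    exact ⟨b1, b2, h3, h4, h5⟩
  have hb1m : b1 ∈ [1, 3, 9, 27, 81] := mem_div (by norm_num) hb1 _ (by decide)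
  have hb2m : b2 ∈ [1, 5, 7, 11, 25, 35, 55, 77, 175, 275, 385, 1925] :=
    mem_div (by norm_num) hb3 _ (by decide +kernel)
  have hem : e ∈ [1, 2, 3, 6, 11, 22, 33, 66] := mem_div (by norm_num) he _ (by decide)
  have ha' : a % 67 = 62 := by
    rw [Nat.mul_mod] at h2
    norm_num at h2
    omega
  have key : ∀ e ∈ [1, 2, 3, 6, 11, 22, 33, 66], ∀ b1 ∈ [1, 3, 9, 27, 81],
      ∀ b2 ∈ [1, 5, 7, 11, 25, 35, 55, 77, 175, 275, 385, 1925],
      e % 2 = 0 → (e * (62 * (b1 * b2))) % 67 = 22 → 35 ∣ b1 * b2 := by decide +kernel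
  refine key e hem b1 hb1m b2 hb2m (Nat.even_iff.1 he2) ?_
  rw [← h1, Nat.mul_mod, Nat.mul_mod 62, Nat.mul_mod e, Nat.mul_mod a, ha']

theorem unit57 : ∀ c : ZMod 7, c ^ 5 = 1 → c = 1 := by decide

theorem card_ly : Nat.card Cfsg.Spor.Ly = 51765179004000000 := Cfsg.Agent.Ly.Setup.card_ly

theorem card_cent {u : Cfsg.Spor.Ly} (hu : orderOf u = 2) :
    Nat.card (centralizer ({u} : Set Cfsg.Spor.Ly)) = 39916800 := by
  have hfin : Finite Cfsg.Spor.Ly := Cfsg.Agent.Ly.Setup.finite_ly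
  obtain ⟨L⟩ := Cfsg.Agent.TypeM.FactsLy.exists_mt_ly
  obtain ⟨h1, h2⟩ := orderOf_two hu
  obtain ⟨g, hg⟩ := L.one u h1 h2
  rw [Cfsg.Agent.Blocks.SylowIn.card_centralizer_of_isConj (isConj_iff.2 ⟨g, hg⟩),
    Cfsg.Agent.TypeM.FactsAut.card_centralizer L (by norm_num)]
  rfl

theorem hasDZ_67 : HasDZ 67 Cfsg.Spor.Ly := by
  have hfin : Finite Cfsg.Spor.Ly := Cfsg.Agent.Ly.Setup.finite_ly
  obtain ⟨L⟩ := Cfsg.Agent.TypeM.FactsLy.exists_mt_ly
  refine hasDZ_of_card (by norm_num) (by rw [card_ly]; exact factorization_eq_one (by norm_num) (by norm_num))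
    (by rw [card_ly]; norm_num) (m := 39916800) (fun u hu => card_cent hu) (by norm_num) ?_
  intro e a b x t hx ht hb he he2 hbm hbo hao hd h1 h2
  rw [card_ly] at h1 h2
  have hb35 := arith e a b he he2 hbm hbo h1 h2
  set D := centralizer ({x} : Set Cfsg.Spor.Ly) ⊓ centralizer ({t} : Set Cfsg.Spor.Ly) with hD
  have hs : Group.IsSolvable D := Cfsg.Agent.S0205.result (by rw [hb]; exact hbo)
  have : Fact (Nat.Prime 5) := ⟨by norm_num⟩
  have : Fact (Nat.Prime 7) := ⟨by norm_num⟩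
  obtain ⟨u, v, hu, hv, huv⟩ := HallPair.exists_orderOf (G := D) hs (p := 7) (q := 5)
    (by rw [hb]; exact (by norm_num : 7 ∣ 35).trans hb35) (by rw [hb]; exact (by norm_num : 5 ∣ 35).trans hb35)
    (by
      rw [hb]
      intro h
      exact absurd (h.trans hbm) (by norm_num))
    (by
      intro k hk hk1
      rw [hb] at hk
      have h5 : k ≤ 2 := by
        by_contra hcon
        have h6 : 5 ^ 3 ∣ 39916800 := ((pow_dvd_pow 5 (by omega : 3 ≤ k)).trans hk).trans hbm
        norm_num at h6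
      interval_cases k
      · rfl
      · exact absurd hk1 (by decide)
      · exact absurd hk1 (by decide))
    unit57
  refine no35 L (t := t) (u := u) (v := v) ht (by rw [Subgroup.orderOf_coe, hu])
    (by rw [Subgroup.orderOf_coe, hv]) (congrArg Subtype.val huv)
    (mem_centralizer_singleton_iff.1 u.2.2) (mem_centralizer_singleton_iff.1 v.2.2)

theorem rows_ly {K : Type*} [Group K] (h : Spor.IsoLy K) : Rows K := by
  have hfin : Finite Cfsg.Spor.Ly := Cfsg.Agent.Ly.Setup.finite_ly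
  obtain ⟨x, hx, ho⟩ := Cfsg.Agent.H710.Spor.Good.exists_vz_ly (K := Cfsg.Spor.Ly) ⟨MulEquiv.refl _⟩
  obtain ⟨e⟩ := h
  exact Rows.mulEquiv (rows_of_prime_mul (p := 67) (q := 2) (r := 3) (n := 18) (by norm_num) (by norm_num)
    (by norm_num) (by norm_num) (by norm_num) (by norm_num)
    (vord_of_dz hasDZ_67 (by rw [card_ly]; norm_num)) ⟨x, hx, ho⟩
    (by norm_num) (by norm_num) (by norm_num)) e.symm

end Cfsg.Agent.H620.RowLy
end
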