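import Cfsg.Agent.H419.Count_m3
import Cfsg.Agent.H620.Solv
import Cfsg.Agent.H620.RowChev
import Cfsg.Agent.KFacts.TwESix.Tor
import Cfsg.Agent.SigTab.Table
import Cfsg.Agent.S1066
import Cfsg.Agent.ClosedExc.Rows
import Cfsg.Agent.S1067
import Cfsg.Agent.H695.Spor.RowA
import Cfsg.Agent.H710.Spor.HNMix
import Cfsg.Agent.H620.SporCrit_m3
import Cfsg.Agent.H620.RowTwF
import Cfsg.Agent.H695.Spor.RowB
import Cfsg.Agent.H620.RowSporC
import Cfsg.Agent.H620.RowHe_mg
import Cfsg.Agent.H620.ONVan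
import Cfsg.Agent.OddHalf.Known
import Cfsg.Agent.Prune
set_option linter.all false
prune_inst 0x7f00000000000000000000000000000000000000000000000000000000000000000000000000000000000000000000000000000000000000000000000000000000000000000000000000000000000000003fffffffffffffffffffffffffffbeffbdffffffff
open scoped Cfsg.Agent.FastGrp

-- part: H620/Top
section
/-!
# S4556 and S4557 from the rows (helper620)
-/

set_option autoImplicit false

namespace Cfsg.Agent.H620

open Cfsg Cfsg.Agent.H713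

universe u

/-- S4556 from the rows. -/
theorem compl_of_row56
    (hrow : ∀ (S : Type u) [Group S] [Finite S] [IsSimpleGroup S], (∃ a b : S, a * b ≠ b * a) →
      Row56 S)
    {G : Type u} [Group G] [Finite G] (p : ℕ) [hp : Fact p.Prime]
    (h : ∀ g : G, (∃ χ : IrrCharacter G, (χ : G → ℂ) g = 0) → p ∣ orderOf g) :
    ∃ (P : Sylow p G) (N : Subgroup G),
      N.Normal ∧ Group.IsNilpotent N ∧ N.IsComplement' (P : Subgroup G) := by
  have hs : Group.IsSolvable G := solvable_of_row56 hrow p hp.out h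
  let P : Sylow p G := default
  refine ⟨P, Solv.exists_compl p ?_ P⟩
  intro r hr hrp R
  refine Solv.normal_sylow (Nat.card G) G rfl ?_ R
  rintro g ⟨m, hm⟩ hv
  have h1 := h g hv
  rw [hm] at h1
  have h2 := hp.out.dvd_of_dvd_pow h1
  exact hrp ((Nat.prime_dvd_prime_iff_eq hp.out hr.out).1 h2).symm

end Cfsg.Agent.H620
end

-- part: H620/TwTbl
section
/-!
# Tables of long roots as vectors (helper620)
-/

set_option autoImplicit false
set_option linter.unusedSectionVars false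

namespace Cfsg.Agent.H620.TwTbl

open CoxeterSystem Cfsg.Agent.ChevalleyStructure.CoxeterGeom Cfsg.Agent.Tits.Roots Cfsg.Agent.Tits.Core
  Cfsg.Agent.Nodes.Reps Cfsg.Agent.Nodes.BNOf Cfsg.Agent.Nodes.Coroot
open Cfsg Cfsg.Agent.H620.ExcIndex Cfsg.Agent.H620.ChevCnt

variable {I W : Type*} [Fintype I] [DecidableEq I] [Group W] {M : CoxeterMatrix I}
  {cs : CoxeterSystem M W} {A : I → I → ℤ} {h : IsCartan M A}

theorem cpr_sign [Finite W] {s : I → ℤ} (hs : IsRoot cs h s) (i : I) :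
    (cpr cs h (sr i) s < 0 ↔ pairing A i s < 0) ∧ (0 < cpr cs h (sr i) s ↔ 0 < pairing A i s) := by
  have := Fintype.ofFinite W
  have e : cpr cs h s (sr i) = pairing A i s := cpr_sr cs h s i
  have h1 : ∀ {x y : I → ℤ}, IsRoot cs h x → IsRoot cs h y → (0 < cpr cs h x y ↔ 0 < cpr cs h y x) := by
    intro x y hx hy
    rw [cpr_pos_iff cs h x hy, cpr_pos_iff cs h y hx, form_comm]
  constructor
  · have h2 := h1 (isRoot_sr cs h i).neg hs
    rw [cpr_neg cs h _ hs, cpr_neg_right cs h _ (isRoot_sr cs h i), e,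
      Left.neg_pos_iff, Left.neg_pos_iff] at h2
    exact h2
  · rw [h1 (isRoot_sr cs h i) hs, e]

/-- The check. -/
def TblV (A : I → I → ℤ) (a : I → ℤ) (L : List (I → ℤ)) (wt : I → ℕ) (K : (I → ℤ) → ℕ) : Prop :=
  (a ∈ L ∧ K a = 0) ∧ ∀ s ∈ L,
    (∀ i, s - pairing A i s • sr i ∈ L ∧
      K (s - pairing A i s • sr i) + (if pairing A i s < 0 then wt i else 0) =
        K s + (if 0 < pairing A i s then wt i else 0)) ∧
    (s = a ∨ ∃ i, K (s - pairing A i s • sr i) < K s)

instance (A : I → I → ℤ) (a : I → ℤ) (L : List (I → ℤ)) (wt : I → ℕ) (K : (I → ℤ) → ℕ) :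
    Decidable (TblV A a L wt K) := by
  unfold TblV
  infer_instance

theorem tbl_of [Finite W] {a : I → ℤ} {L : List (I → ℤ)} {wt : I → ℕ} {K : (I → ℤ) → ℕ} (D : TblV A a L wt K)
    (hr : ∀ s ∈ L, IsRoot cs h s) : Tbl cs h a L.toFinset wt K := by
  obtain ⟨⟨h1, h2⟩, h3⟩ := D
  refine ⟨List.mem_toFinset.2 h1, ?_, h2, ?_, ?_⟩
  · intro s hs i
    rw [List.mem_toFinset] at hs ⊢
    rw [rep_simple_eq]
    exact ((h3 s hs).1 i).1
  · intro s hs
    rw [List.mem_toFinset] at hs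
    rcases (h3 s hs).2 with h4 | ⟨i, h4⟩
    · exact Or.inl h4
    · refine Or.inr ⟨i, ?_⟩
      rwa [rep_simple_eq]
  · intro s hs i
    rw [List.mem_toFinset] at hs
    rw [rep_simple_eq]
    have h4 := cpr_sign (hr s hs) i
    simp only [h4.1, h4.2]
    exact ((h3 s hs).1 i).2

theorem sum_list {L : List (I → ℤ)} (hL : L.Nodup) (K : (I → ℤ) → ℕ) (q : ℕ) :
    ∑ s ∈ L.toFinset, q ^ K s = ev (cntL (L.map K)) q := by
  rw [ev_cntL, List.map_map, List.sum_toFinset _ hL]
  rfl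

end Cfsg.Agent.H620.TwTbl
end

-- part: H620/RowTwE
section
/-!
# The row of `²E₆(q)` (helper620)
-/

set_option autoImplicit false
set_option linter.unusedSectionVars false

namespace Cfsg.Agent.H620.RowTwE

open CoxeterSystem Cfsg.Agent.ChevalleyStructure.CoxeterGeom Cfsg.Agent.Tits.Roots Cfsg.Agent.Tits.Core
  Cfsg.Agent.Nodes.Reps Cfsg.Agent.Nodes.BNOf Cfsg.Agent.Nodes.Coroot Cfsg.Agent.Nodes.RGDTwE6
  Cfsg.Agent.KFacts.RgdTI Cfsg.Agent.KFacts.RgdPar Cfsg.Agent.Nodes.Bruhat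
open Cfsg Cfsg.Lie Cfsg.Agent.H620 Cfsg.Agent.H620.ExcIndex Cfsg.Agent.H620.ChevCnt Cfsg.Agent.H620.ChevChk
  Cfsg.Agent.H620.TwTbl Cfsg.Agent.H620.RowChev
open Cfsg.Agent.KFacts.TwESix.Comb (rts bf rho mem_rts finiteW rho_root rho_long)
open Cfsg.Agent.ChevalleyStructure

def Lg : List (Fin 4 → ℤ) := rts.filter fun s => decide (bf s s = 4)

def Ks (s : Fin 4 → ℤ) : ℕ := KK 1 11 (s 0 + s 1 + s 2 + s 3)

def wts (i : Fin 4) : ℕ := if i = 0 ∨ i = 1 then 1 else 2

set_option maxRecDepth 20000 in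
theorem tblV : TblV A rho Lg wts Ks := by decide +kernel

theorem nodupL : Lg.Nodup := by decide +kernel

theorem cntE : cntL (Lg.map Ks) = [1, 1, 1, 0, 1, 1, 2, 1, 1, 1, 2, 2, 1, 1, 1, 2, 1, 1, 0, 1, 1, 1] := by
  decide +kernel

theorem poly_2E6 {q : ℕ} (hq : 1 ≤ q) :
    ev [1, 1, 1, 0, 1, 1, 2, 1, 1, 1, 2, 2, 1, 1, 1, 2, 1, 1, 0, 1, 1, 1] q *
    ((q ^ 1 - 1) * (q ^ 3 + 1) * (q ^ 4 - 1)) = (q ^ 8 - 1) * (q ^ 9 + 1) * (q ^ 12 - 1) := by
  zify
  simp only [cast_pred hq]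
  simp only [ev]
  push_cast
  ring

theorem not_dvd_succ_pow {q n t k : ℕ} (hk : ¬ n ∣ 2 * k) (hprim : ∀ m, t ∣ q ^ m - 1 ↔ n ∣ m) :
    ¬ t ∣ q ^ k + 1 := by
  intro h
  apply hk
  rw [← hprim]
  have h1 : q ^ (2 * k) - 1 = (q ^ k + 1) * (q ^ k - 1) := by
    rw [mul_comm 2 k, pow_mul, ← one_pow 2, Nat.sq_sub_sq, one_pow]
  rw [h1]
  exact dvd_mul_of_dvd_left h _

theorem lieGood_2E6 {K : Type} [Field K] [Fintype K] (p : ℕ) [hp : Fact p.Prime] [CharP K p] {q : ℕ}
    (hq : IsPrimePow q) (hK : Fintype.card K = q ^ 2) : LieGood (twistedE6 K q) p := by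
  classical
  obtain ⟨φ, hφ, hqq⟩ := TwE6Basic.exists_frob hq hK
  have hq2 : 2 ≤ q := hq.two_le
  let cs := (CoxeterMatrix.F₄).toCoxeterSystem
  have : Finite (CoxeterMatrix.F₄).Group := finiteW cs
  have hG : GG cs isCartan (T K q) (X φ q) = ⊤ := KFacts.Mult.RGDW.GG_eq_top_of_G1 (G1_eq_top cs hφ hqq)
  have L : LR (rgd cs hφ hqq p) rho := KFacts.TwESix.Grp.lr_long cs hφ hqq p (rho_root cs) rho_long
  have hr : ∀ s ∈ Lg, IsRoot cs isCartan s := fun s hs => (mem_rts cs).2 (List.mem_filter.1 hs).1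
  have hdec : ∀ i, 0 ≤ pairing A i rho := by decide +kernel
  have hd : ∀ i, 0 ≤ cpr cs isCartan (sr i) rho := by
    intro i
    by_contra h
    have := (cpr_sign (rho_root cs) i).1.1 (not_le.1 h)
    have := hdec i
    omega
  have Tb := tbl_of (cs := cs) (h := isCartan) tblV hr
  have hcX : ∀ i : Fin 4, Nat.card (X φ q (sr i)) = q ^ wts i := fun i =>
    GpExc.TwCard.card_simple hφ hqq (by omega) hK i
  have hidx := index_of_tbl hG L hd Tb (q := q) (by omega) hcX
  rw [sum_list nodupL, cntE] at hidx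
  have hPN := Subgroup.card_mul_index (PS (T K q) (X φ q) (Ge cs isCartan rho))
  rw [hidx] at hPN
  obtain ⟨t, ht, hprim, -, htq⟩ := Cfsg.Agent.Lib.Zsigmondy.exists_primitive (a := q)
    (n := 12) hq2 (by norm_num) (by norm_num) (by omega)
  have hcard : Nat.gcd 3 (q + 1) * Nat.card (twistedE6 K q) = q ^ 36 * ((q ^ 2 - 1) * (q ^ 5 + 1) *
      (q ^ 6 - 1) * (q ^ 8 - 1) * (q ^ 9 + 1)) * (q ^ 12 - 1) := by
    rw [Cfsg.Agent.S1066.result hq hK]; ring
  have hg : ¬ t ∣ Nat.gcd 3 (q + 1) := by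
    intro h
    exact not_dvd_succ hq2 ht (by norm_num) hprim (h.trans (Nat.gcd_dvd_right _ _))
  have hs3 := not_dvd_succ_pow (k := 3) (by norm_num) hprim
  have hs5 := not_dvd_succ_pow (k := 5) (by norm_num) hprim
  have hs9 := not_dvd_succ_pow (k := 9) (by norm_num) hprim
  have hP : ¬ t ∣ Nat.card (PS (T K q) (X φ q) (Ge cs isCartan rho)) := by
    refine not_dvd_P ht (by rw [hPN]; exact hcard) (poly_2E6 (by omega)) (pred_pos hq2 (by norm_num))
      (not_dvd_pow ht htq) ?_ ?_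
    · simp only [ht.dvd_mul, hprim, hs5, hs9, or_false]; omega
    · simp only [ht.dvd_mul, hprim, hs3, or_false]; omega
  have htY : t ∣ Nat.card (twistedE6 K q) := by
    have h1 : t ∣ Nat.gcd 3 (q + 1) * Nat.card (twistedE6 K q) := by
      rw [hcard]
      exact dvd_mul_of_dvd_right ((hprim _).2 dvd_rfl) _
    exact (ht.dvd_mul.1 h1).resolve_left hg
  obtain ⟨w, hw⟩ := KFacts.TwESix.Comb.exists_rep_long cs (rho_root cs) rho_long
  have htp : t ≠ p := by
    refine ne_char (K := K) p ?_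
    rw [hK]
    exact not_dvd_pow ht htq
  have hj : cpr cs isCartan (sr 3) rho = 0 := by
    have h1 := cpr_sign (cs := cs) (h := isCartan) (rho_root cs) 3
    have h2 : pairing A 3 rho = 0 := by decide +kernel
    rw [h2] at h1
    have h3 := h1.1
    have h4 := h1.2
    simp only [lt_self_iff_false, iff_false, not_lt] at h3 h4
    omega
  refine RootLie.lieGood_of_lr hG L hd ht htp hP htY (i₀ := 0) (w := w) hw ?_ hj
  rw [hcX]
  show ¬ t ∣ q ^ 1 + 1
  rw [pow_one]
  exact not_dvd_succ hq2 ht (by norm_num) hprim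

end Cfsg.Agent.H620.RowTwE
end

-- part: H620/RowTwD
section
/-!
# The row of `³D₄(q)` (helper620)
-/

set_option autoImplicit false
set_option linter.unusedSectionVars false

namespace Cfsg.Agent.H620.RowTwD

open CoxeterSystem Cfsg.Agent.ChevalleyStructure.CoxeterGeom Cfsg.Agent.Tits.Roots Cfsg.Agent.Tits.Core
  Cfsg.Agent.Nodes.Reps Cfsg.Agent.Nodes.BNOf Cfsg.Agent.Nodes.Coroot Cfsg.Agent.Nodes.RGDTwD4
  Cfsg.Agent.KFacts.RgdTI Cfsg.Agent.KFacts.RgdPar Cfsg.Agent.Nodes.Bruhat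
open Cfsg Cfsg.Lie Cfsg.Agent.H620 Cfsg.Agent.H620.ExcIndex Cfsg.Agent.H620.ChevCnt Cfsg.Agent.H620.ChevChk
  Cfsg.Agent.H620.TwTbl Cfsg.Agent.H620.RowChev Cfsg.Agent.H620.RowTwE
open Cfsg.Agent.ChevalleyStructure Cfsg.Agent.ChevalleyStructure.Elts
open Cfsg.Agent.Nodes.RGDFold Cfsg.Agent.ChevalleyStructure.TwistedU
open Cfsg.Agent.ChevalleyStructure.D4Fixed (sig)

def Lg : List (Fin 2 → ℤ) := [![1, 0], ![1, 3], ![2, 3], ![-1, 0], ![-1, -3], ![-2, -3]]

def th : Fin 2 → ℤ := ![2, 3]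

def Ks (s : Fin 2 → ℤ) : ℕ := KK 1 5 (s 0 + s 1)

def wts (i : Fin 2) : ℕ := if i = 0 then 1 else 3

theorem tblV : TblV Nodes.RGDTwD4.A th Lg wts Ks := by decide +kernel

theorem nodupL : Lg.Nodup := by decide +kernel

theorem cntD : cntL (Lg.map Ks) = [1, 1, 0, 0, 1, 1, 0, 0, 1, 1] := by decide +kernel

theorem V_Lg : ∀ s ∈ Lg, ∃ k < chevD4.nroots, V chevD4 J k = s := by decide +kernel

theorem V_th : ∀ k < chevD4.nroots, V chevD4 J k = th → k = 23 := by decide +kernel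

theorem nilD : ∀ r < chevD4.nroots, 0 ≤ V chevD4 J r 0 → r = 23 ∨ (23 ≠ chevD4.neg r ∧
    chevD4.commTerms r 23 = []) := by decide +kernel

theorem poly_3D4 {q : ℕ} (hq : 1 ≤ q) :
    ev [1, 1, 0, 0, 1, 1, 0, 0, 1, 1] q * (q ^ 1 - 1) = (q ^ 2 - 1) * (q ^ 8 + q ^ 4 + 1) := by
  zify
  simp only [cast_pred hq]
  simp only [ev]
  push_cast
  ring

theorem lieGood_3D4 {K : Type} [Field K] [Fintype K] (p : ℕ) [hp' : Fact p.Prime] [CharP K p] {q : ℕ}
    (hq : IsPrimePow q) (hK : Fintype.card K = q ^ 3) : LieGood (twistedD4 K q) p := by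
  classical
  obtain ⟨φ, hφ⟩ := D4Fixed.exists_frob hq hK
  have hq2 : 2 ≤ q := hq.two_le
  have hle := D4Fixed.twisted_le_fix hK hφ
  let cs := (CoxeterMatrix.G₂).toCoxeterSystem
  have : Finite (CoxeterMatrix.G₂).Group := Nodes.RGDFold.finite_W (hp := hp) cs isCartan foldData
  have hG : GG cs isCartan (T K q) (X φ q) = ⊤ := KFacts.Mult.RGDW.GG_eq_top_of_G1 (G1_eq_top cs hK hφ)
  have hroot : ∀ x, IsRoot cs isCartan x ↔ ∃ r < chevD4.nroots, V chevD4 J r = x := fun x =>
    foldData.isRoot_iff (cs := cs) (h := isCartan) hp.checked (fun i r hr => wp_lt hp (J i) hr) x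
  have hr : ∀ s ∈ Lg, IsRoot cs isCartan s := fun s hs => by
    rw [hroot]
    exact V_Lg s hs
  have hth : IsRoot cs isCartan th := hr th (by decide)
  have hdec0 : pairing Nodes.RGDTwD4.A 0 th = 1 := by decide +kernel
  have hdec1 : pairing Nodes.RGDTwD4.A 1 th = 0 := by decide +kernel
  have hc0 : 0 < cpr cs isCartan (sr 0) th := by
    rw [(cpr_sign (cs := cs) (h := isCartan) hth 0).2, hdec0]
    norm_num
  have hc1 : cpr cs isCartan (sr 1) th = 0 := by
    have h1 := cpr_sign (cs := cs) (h := isCartan) hth 1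
    rw [hdec1] at h1
    have h3 := h1.1
    have h4 := h1.2
    simp only [lt_self_iff_false, iff_false, not_lt] at h3 h4
    omega
  have hd : ∀ i, 0 ≤ cpr cs isCartan (sr i) th := by
    intro i
    fin_cases i
    · exact hc0.le
    · exact hc1.ge
  have hcpr : ∀ x : Fin 2 → ℤ, cpr cs isCartan x th = x 0 * cpr cs isCartan (sr 0) th := by
    intro x
    have e : x = x 0 • (sr 0 : Fin 2 → ℤ) + x 1 • (sr 1 : Fin 2 → ℤ) := by
      funext k
      fin_cases k
      · show x 0 = x 0 * (sr 0 : Fin 2 → ℤ) 0 + x 1 * (sr 1 : Fin 2 → ℤ) 0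
        rw [sr_self, sr_ne (by decide)]; ring
      · show x 1 = x 0 * (sr 0 : Fin 2 → ℤ) 1 + x 1 * (sr 1 : Fin 2 → ℤ) 1
        rw [sr_self, sr_ne (by decide)]; ring
    conv_lhs => rw [e]
    rw [cpr_add cs isCartan _ _ hth, cpr_smul cs isCartan _ _ hth, cpr_smul cs isCartan _ _ hth, hc1, mul_zero,
      add_zero]
  have L : LR (rgd cs hK hφ p) th := by
    refine ⟨hth, fun x hx hc u hu v hv => ?_⟩
    have hc' : 0 ≤ x 0 := by
      rw [hcpr] at hc
      exact nonneg_of_mul_nonneg_left hc hc0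
    have hu' : (u : GL chevD4.Idx K) ∈ rspan (xG (F := K) hp.inList) {k | k < chevD4.nroots ∧ V chevD4 J k = x} :=
      (show (u : GL chevD4.Idx K) ∈ R chevD4 hp K J (sig φ) x from hu).1
    have hv' : (v : GL chevD4.Idx K) ∈ rspan (xG (F := K) hp.inList) {k | k < chevD4.nroots ∧ V chevD4 J k = th} :=
      (show (v : GL chevD4.Idx K) ∈ R chevD4 hp K J (sig φ) th from hv).1
    have step : ∀ s ∈ {k | k < chevD4.nroots ∧ V chevD4 J k = th}, ∀ t : K,
        rspan (xG (F := K) hp.inList) {k | k < chevD4.nroots ∧ V chevD4 J k = x} ≤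
          Subgroup.centralizer ({xG (F := K) hp.inList s t} : Set (GL chevD4.Idx K)) := by
      rintro s ⟨hs, hsa⟩ t
      have h23 := V_th s hs hsa
      subst h23
      refine rspan_le _ fun r hr' w => ?_
      rw [Subgroup.mem_centralizer_singleton_iff]
      rcases nilD r hr'.1 (by rw [hr'.2]; exact hc') with h | ⟨h1, h2⟩
      · subst h
        rw [xG_add, xG_add, add_comm]
      · by_cases h3 : 23 = r
        · subst h3
          rw [xG_add, xG_add, add_comm]
        · exact (commute_of_nil hp hr'.1 hs h3 h1 h2 w t).eq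
    have h1 : rspan (xG (F := K) hp.inList) {k | k < chevD4.nroots ∧ V chevD4 J k = th} ≤
        Subgroup.centralizer ({(u : GL chevD4.Idx K)} : Set (GL chevD4.Idx K)) := by
      refine rspan_le _ fun s hs t => ?_
      rw [Subgroup.mem_centralizer_singleton_iff]
      exact (Subgroup.mem_centralizer_singleton_iff.1 (step s hs t hu')).symm
    exact Subtype.ext (Subgroup.mem_centralizer_singleton_iff.1 (h1 hv')).symm
  have Tb := tbl_of (cs := cs) (h := isCartan) tblV hr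
  have hcX : ∀ i : Fin 2, Nat.card (X φ q (sr i)) = q ^ wts i := by
    intro i
    fin_cases i
    · exact (ClosedExc.TwD4.card_X0 hφ hle hq2 hK).trans (pow_one q).symm
    · exact (ClosedExc.TwD4.card_X1 hφ hle).trans hK
  have hidx := index_of_tbl hG L hd Tb (q := q) (by omega) hcX
  rw [sum_list nodupL, cntD] at hidx
  have hPN := Subgroup.card_mul_index (PS (T K q) (X φ q) (Ge cs isCartan th))
  rw [hidx] at hPN
  obtain ⟨t, ht, hprim, -, htq⟩ := Cfsg.Agent.Lib.Zsigmondy.exists_primitive (a := q)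
    (n := 12) hq2 (by norm_num) (by norm_num) (by omega)
  have hcard : 1 * Nat.card (twistedD4 K q) = q ^ 12 * ((q ^ 2 - 1) * (q ^ 6 - 1)) * (q ^ 8 + q ^ 4 + 1) := by
    rw [Cfsg.Agent.S1067.result hq hK]; ring
  have htZ : t ∣ q ^ 8 + q ^ 4 + 1 := by
    have h1 : q ^ 12 - 1 = (q ^ 4 - 1) * (q ^ 8 + q ^ 4 + 1) := by
      zify
      rw [cast_pred (by omega), cast_pred (by omega)]
      ring
    have h2 : t ∣ q ^ 12 - 1 := (hprim _).2 dvd_rfl
    rw [h1] at h2
    refine (ht.dvd_mul.1 h2).resolve_left ?_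
    rw [hprim]
    norm_num
  have hP : ¬ t ∣ Nat.card (PS (T K q) (X φ q) (Ge cs isCartan th)) := by
    refine not_dvd_P ht (by rw [hPN]; exact hcard) (poly_3D4 (by omega)) (by positivity)
      (not_dvd_pow ht htq) ?_ ?_
    · simp only [ht.dvd_mul, hprim]; omega
    · rw [hprim]; omega
  have htY : t ∣ Nat.card (twistedD4 K q) := by
    rw [← one_mul (Nat.card (twistedD4 K q)), hcard]
    exact dvd_mul_of_dvd_right htZ _
  obtain ⟨w, hw⟩ := (Tb.orbit (sr 0)).1 (by
    rw [List.mem_toFinset]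
    decide +kernel)
  have hw' : rep cs isCartan w⁻¹ (sr 0) = th := by
    rw [← hw, rep_inv_apply]
  have htp : t ≠ p := by
    refine ne_char (K := K) p ?_
    rw [hK]
    exact not_dvd_pow ht htq
  refine RootLie.lieGood_of_lr hG L hd ht htp hP htY hw' ?_ hc1
  rw [hcX]
  show ¬ t ∣ q ^ 1 + 1
  rw [pow_one]
  exact not_dvd_succ hq2 ht (by norm_num) hprim

theorem lieGood_twisted {G : Type*} [Group G] {p : ℕ} (hp : p.Prime) (h : IsTwistedE6D4Char p G) :
    LieGood G p := by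
  have : Fact p.Prime := ⟨hp⟩
  obtain ⟨K, _, _, _, q, hq, ⟨hK, ⟨e⟩⟩ | ⟨hK, ⟨e⟩⟩⟩ := h
  · exact (lieGood_2E6 p hq hK).mulEquiv e.symm
  · exact (lieGood_3D4 p hq hK).mulEquiv e.symm

theorem rows_twisted {G : Type*} [Group G] [Finite G] [IsSimpleGroup G] {p : ℕ} (hp : p.Prime)
    (h : IsTwistedE6D4Char p G) : RowClass.Rows G :=
  RowClass.rows_of_lieGood hp (Or.inr (Or.inr (Or.inr (Or.inr (Or.inr (Or.inr (Or.inr (Or.inl h))))))))
    (lieGood_twisted hp h)

end Cfsg.Agent.H620.RowTwD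
end

-- part: H620/RowHN
section
/-!
# The rows of HN (helper620)
-/

set_option autoImplicit false

namespace Cfsg.Agent.H620.RowHN

open Cfsg Cfsg.Agent.H620 Cfsg.Agent.H713 Cfsg.Agent.H620.RowClass Cfsg.Agent.H620.SporCrit
open Cfsg.Agent.H665.NoPQ Cfsg.Agent.H620.RowSporA Subgroup
open Cfsg.Agent.H710.Spor.HN Cfsg.Agent.H710.Spor.HNMix

theorem rows_hn {K : Type*} [Group K] (h : Spor.IsoHN K) : Rows K := by
  have := finite_hn
  have : Fact (Nat.Prime 19) := ⟨by norm_num⟩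
  obtain ⟨e⟩ := h
  refine Rows.mulEquiv ?_ e.symm
  refine rows_of_evMix (p := 19) (by norm_num) (by rw [card_hn]; norm_num) hasDZ_19 evMix' fun x h2 hx => ?_
  have hx0 : orderOf x ≠ 0 := (orderOf_pos x).ne'
  have h3 : orderOf (x ^ (orderOf x / 2)) = 2 := orderOf_pow_orderOf_div hx0 h2
  have h4 : orderOf (x ^ (orderOf x / 19)) = 19 := orderOf_pow_orderOf_div hx0 hx
  have h5 : x ^ (orderOf x / 19) ∈ Subgroup.centralizer ({x ^ (orderOf x / 2)} : Set Cfsg.Spor.HN) := by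
    rw [Subgroup.mem_centralizer_singleton_iff, ← pow_add, ← pow_add, add_comm]
  have h6 : 19 ∣ Nat.card (Subgroup.centralizer ({x ^ (orderOf x / 2)} : Set Cfsg.Spor.HN)) := by
    rw [← h4, ← Subgroup.orderOf_mk _ h5]
    exact orderOf_dvd_natCard _
  rcases Cfsg.Agent.SigZeroHN.card_centralizer_cases h3 with h | h
  · rw [h.2] at h6
    norm_num at h6
  · rw [h.2] at h6
    norm_num at h6

end Cfsg.Agent.H620.RowHN
end

-- part: H620/RowsAll
section
/-!
# All the rows (helper620)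
-/

set_option autoImplicit false

namespace Cfsg.Agent.H620.RowsAll

open Cfsg Cfsg.Agent.H620 Cfsg.Agent.H620.RowClass

universe u

variable {K : Type u} [Group K] [Finite K]

theorem rows_spor (hS : Cfsg.Agent.H690.Spor.Trans.AllKnown) (h : IsSporadicGroup K) : Rows K := by
  rcases h with h | h | h | h | h | h | h | h | h | h | h | h | h | h | h | h | h | h | h | h | h |
    h | h | h | h | h
  · exact RowSporA.rows_m11 h
  · exact RowSporA.rows_m12 h
  · exact RowSporA.rows_m22 h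
  · exact RowSporA.rows_m23 h
  · exact RowSporA.rows_m24 h
  · exact RowSporA.rows_j1 h
  · exact RowSporB.rows_j2 h
  · exact RowSporB.rows_j3 h
  · exact RowSporB.rows_j4 h
  · exact RowSporC.rows_co1 h
  · exact RowSporB.rows_co2 h
  · exact RowSporB.rows_co3 h
  · exact RowSporA.rows_mcl h
  · exact RowSporA.rows_hs h
  · exact RowSporB.rows_suz h
  · exact RowHe.rows_he h
  · exact RowSporB.rows_ru h
  · exact rows_on h
  · exact RowLy.rows_ly h
  · exact RowSporB.rows_fi22 h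
  · exact RowSporB.rows_fi23 h
  · exact RowSporB.rows_fi24 h
  · exact RowHN.rows_hn h
  · exact RowSporC.rows_th h
  · exact RowSporB.rows_b hS h
  · exact RowSporB.rows_m h

theorem rows_lie [IsSimpleGroup K] {p : ℕ} (hp : p.Prime) (h : IsLieTypeChar p K) : Rows K := by
  rcases h with h | h | h | h | h | h | h | h | h | h | h
  · exact rows_isPSL hp h
  · exact rows_isPSp hp h
  · exact rows_isPSU hp h
  · exact rows_isPOmegaOdd hp h
  · exact rows_isPOmegaPlus hp h
  · exact rows_isPOmegaMinus hp h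
  · exact RowChev.rows_exceptional hp h
  · exact RowTwD.rows_twisted hp h
  · exact RowSz.rows_suzuki h.2
  · exact RowTwF.rows_twF h.2
  · exact RowRee.rows_ree h.2

/-- **The rows of the known simple groups.** -/
theorem rows_of_known [IsSimpleGroup K] (hS : Cfsg.Agent.H690.Spor.Trans.AllKnown)
    (hna : ¬ IsMulCommutative K) (h : IsKnownSimple' K) : Rows K := by
  rcases Cfsg.Agent.OddHalf.Known.classify' hna h with h | ⟨p, hp, h⟩ | h | h
  · exact rows_isAlternating h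
  · exact rows_lie hp h
  · exact RowSporB.rows_tits h
  · exact rows_spor hS h

end Cfsg.Agent.H620.RowsAll
end

-- part: H620/Main
section
/-!
# S4556 and S4557 from the classification (helper620)
-/

set_option autoImplicit false

namespace Cfsg.Agent.H620.Main

open Cfsg Cfsg.Agent.H620 Cfsg.Agent.H620.RowClass Cfsg.Agent.H713

universe u

theorem rows (hS : Cfsg.Agent.H690.Spor.Trans.AllKnown)
    (hkn : ∀ (S : Type u) [Group S] [Finite S] [IsSimpleGroup S], IsKnownSimple' S)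
    (S : Type u) [Group S] [Finite S] [IsSimpleGroup S] (hna : ∃ a b : S, a * b ≠ b * a) : Rows S := by
  refine RowsAll.rows_of_known hS ?_ (hkn S)
  intro h
  obtain ⟨a, b, hab⟩ := hna
  exact hab (h.is_comm.comm a b)

/-- S4556 from the classification. -/
theorem exists_compl (hS : Cfsg.Agent.H690.Spor.Trans.AllKnown)
    (hkn : ∀ (S : Type u) [Group S] [Finite S] [IsSimpleGroup S], IsKnownSimple' S)
    {G : Type u} [Group G] [Finite G] (p : ℕ) [Fact p.Prime]
    (h : ∀ g : G, (∃ χ : IrrCharacter G, (χ : G → ℂ) g = 0) → p ∣ orderOf g) :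
    ∃ (P : Sylow p G) (N : Subgroup G),
      N.Normal ∧ Group.IsNilpotent N ∧ N.IsComplement' (P : Subgroup G) :=
  compl_of_row56 (fun S _ _ _ hna => (rows hS hkn S hna).1) p h

/-- S4557 from the classification. -/
theorem isSolvable (hS : Cfsg.Agent.H690.Spor.Trans.AllKnown)
    (hkn : ∀ (S : Type u) [Group S] [Finite S] [IsSimpleGroup S], IsKnownSimple' S)
    {G : Type u} [Group G] [Finite G] (p q : ℕ) (hp : p.Prime) (hq : q.Prime)
    (h : ∀ g : G, (∃ χ : IrrCharacter G, (χ : G → ℂ) g = 0) → ∃ a b : ℕ, orderOf g = p ^ a * q ^ b) :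
    Group.IsSolvable G :=
  solvable_of_row57 (fun S _ _ _ hna => (rows hS hkn S hna).2) p q hp hq h

end Cfsg.Agent.H620.Main
end
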